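import Mathlib

/-!
# There is no regular friendship graph of valency at least three
-/

set_option autoImplicit false
set_option linter.all false

namespace Cfsg.Agent.MixedPrime

open Matrix

theorem no_friendship {V : Type*} [Finite V] [Nonempty V] (R : V → V → Prop)
    (hsymm : ∀ u v, R u v → R v u) (hirr : ∀ v, ¬ R v v) (k : ℕ) (hk : 3 ≤ k)
    (hdeg : ∀ v, Nat.card {w // R v w} = k)
    (hcommon : ∀ u v, u ≠ v → Nat.card {w // R u w ∧ R v w} = 1) : False := by
  classical
  have := Fintype.ofFinite V
  obtain ⟨p, hp, hpk⟩ := Nat.exists_prime_and_dvd (show k - 1 ≠ 1 by omega)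
  haveI := Fact.mk hp
  have hk1 : (k : ZMod p) = 1 := by
    have : ((k - 1 : ℕ) : ZMod p) = 0 := (ZMod.natCast_eq_zero_iff _ _).mpr hpk
    rwa [Nat.cast_sub (by omega), Nat.cast_one, sub_eq_zero] at this
  let A : Matrix V V (ZMod p) := Matrix.of fun u v => if R u v then 1 else 0
  let J : Matrix V V (ZMod p) := Matrix.of fun _ _ => 1
  have hA : ∀ u v, A u v = if R u v then 1 else 0 := fun u v => rfl
  have hAA : A * A = J := by
    ext u v
    rw [Matrix.mul_apply]
    show (∑ w, A u w * A w v) = 1
    have e : ∀ w, A u w * A w v = if R u w ∧ R v w then 1 else 0 := fun w => by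
      rw [hA, hA]
      by_cases h1 : R u w <;> by_cases h2 : R v w
      · simp [h1, h2, hsymm v w h2]
      · rw [if_pos h1, if_neg (fun h => h2 (hsymm w v h)), if_neg (fun h => h2 h.2), mul_zero]
      · simp [h1, h2]
      · simp [h1, h2]
    rw [Finset.sum_congr rfl fun w _ => e w, Finset.sum_boole, ← Fintype.card_subtype,
      ← Nat.card_eq_fintype_card]
    by_cases huv : u = v
    · subst huv
      simp only [and_self]
      rw [hdeg, hk1]
    · rw [hcommon u v huv, Nat.cast_one]
  have hAJ : A * J = J := by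
    ext u v
    rw [Matrix.mul_apply]
    show (∑ w, A u w * 1) = 1
    simp only [mul_one, hA]
    rw [Finset.sum_boole, ← Fintype.card_subtype, ← Nat.card_eq_fintype_card, hdeg, hk1]
  have hpow : ∀ j, A ^ (j + 2) = J := by
    intro j
    induction j with
    | zero => rw [zero_add, pow_two, hAA]
    | succ j ih => rw [show j + 1 + 2 = (j + 2) + 1 by ring, pow_succ', ih, hAJ]
  obtain ⟨v₀⟩ := (inferInstance : Nonempty V)
  have hn : (Fintype.card V : ZMod p) = 1 := by
    have h1 : J * J = J := by
      calc J * J = A ^ 2 * A ^ 2 := by rw [hpow 0]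
        _ = J := by rw [← pow_add, hpow 2]
    have h2 := congrFun (congrFun h1 v₀) v₀
    rw [Matrix.mul_apply] at h2
    simpa [J] using h2
  have h1 := ZMod.trace_pow_card A
  obtain ⟨j, hj⟩ : ∃ j, p = j + 2 := ⟨p - 2, by have := hp.two_le; omega⟩
  have e1 : A ^ p = J := by
    have := hpow j
    rwa [← hj] at this
  have e2 : trace A = 0 := Finset.sum_eq_zero fun v _ => by
    show A v v = 0
    rw [hA, if_neg (hirr v)]
  have e3 : trace J = 1 := by
    simpa [Matrix.trace, J] using hn
  rw [e1, e2, e3, zero_pow hp.ne_zero] at h1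
  exact one_ne_zero h1

end Cfsg.Agent.MixedPrime
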