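import Mathlib
import Cfsg.Prelude.Def_Transfer
import Cfsg.Agent.Cores.Basic
import Cfsg.Agent.Cores.Fitting
import Cfsg.Agent.Char.Burnside

/-!
# Elementary facts for groups with a large prime dividing the mixed subgroups
-/

set_option autoImplicit false
set_option linter.all false

namespace Cfsg.Agent.MixedPrime

open Cfsg Cfsg.Agent

universe u

variable {G : Type u} [Group G] [Finite G]

theorem eq_one_of_pow {p q : ℕ} (h : p.Coprime q) {g : G} {i j : ℕ} (hi : g ^ p ^ i = 1)
    (hj : g ^ q ^ j = 1) : g = 1 := by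
  rw [← orderOf_eq_one_iff]
  exact Nat.eq_one_of_dvd_coprimes ((Nat.Coprime.pow_left i h).pow_right j)
    (orderOf_dvd_of_pow_eq_one hi) (orderOf_dvd_of_pow_eq_one hj)

theorem exists_pow_eq_one {p : ℕ} {H : Subgroup G} (hH : IsPGroup p H) {g : G} (hg : g ∈ H) :
    ∃ k : ℕ, g ^ p ^ k = 1 := by
  obtain ⟨k, hk⟩ := hH ⟨g, hg⟩
  exact ⟨k, congrArg Subtype.val hk⟩

theorem isPGroup_zpowers {p : ℕ} [Fact p.Prime] {g : G} {k : ℕ} (hg : g ^ p ^ k = 1) :
    IsPGroup p (Subgroup.zpowers g) := by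
  intro x
  obtain ⟨i, hi⟩ := x.2
  refine ⟨k, Subtype.ext ?_⟩
  show (x : G) ^ p ^ k = 1
  rw [← hi, ← zpow_natCast, ← zpow_mul, mul_comm, zpow_mul, zpow_natCast, hg, one_zpow]

theorem exists_sylow_mem {p : ℕ} [Fact p.Prime] {g : G} {k : ℕ} (hg : g ^ p ^ k = 1) :
    ∃ P : Sylow p G, g ∈ (P : Subgroup G) := by
  obtain ⟨P, hP⟩ := (isPGroup_zpowers hg).exists_le_sylow
  exact ⟨P, hP (Subgroup.mem_zpowers g)⟩

/-- A nontrivial orbit of a `p`-element on the nonidentity elements of a normalized set has at least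
`p` members. -/
theorem moved_card {p : ℕ} [hp : Fact p.Prime] {U : Subgroup G} {g : G} {k : ℕ} (hgk : g ^ p ^ k = 1)
    (hg : g ∈ Subgroup.normalizer (U : Set G)) {w : G} (hw : w ∈ U) (hmove : g * w * g⁻¹ ≠ w) :
    p + 1 ≤ Nat.card U ∧ (Nat.card U ≤ p + 1 → ∀ u ∈ U, u ≠ 1 → ∃ i : ℕ, g ^ i * w * (g ^ i)⁻¹ = u) := by
  classical
  let H := Subgroup.zpowers g
  have hHN : ∀ h ∈ H, h ∈ Subgroup.normalizer (U : Set G) := fun h hh => Subgroup.zpowers_le.mpr hg hh
  let T := {u : G // u ∈ U ∧ u ≠ 1}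
  letI : MulAction H T :=
    { smul := fun h u => ⟨h.1 * u.1 * h.1⁻¹,
        (Subgroup.mem_normalizer_iff.mp (hHN _ h.2) u.1).mp u.2.1, fun e => u.2.2 (conj_eq_one_iff.mp e)⟩
      one_smul := fun u => Subtype.ext (by show (1 : G) * u.1 * (1 : G)⁻¹ = u.1; group)
      mul_smul := fun a b u => Subtype.ext (by
        show (a.1 * b.1) * u.1 * (a.1 * b.1)⁻¹ = a.1 * (b.1 * u.1 * b.1⁻¹) * a.1⁻¹; group) }
  let t : T := ⟨w, hw, fun e => hmove (by rw [e]; group)⟩
  obtain ⟨j, hj⟩ := (isPGroup_zpowers hgk).card_orbit t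
  have hne : j ≠ 0 := by
    rintro rfl
    rw [pow_zero, Nat.card_eq_one_iff_unique] at hj
    haveI := hj.1
    exact hmove (congrArg (fun o : MulAction.orbit H t => o.1.1)
      (Subsingleton.elim ⟨(⟨g, Subgroup.mem_zpowers g⟩ : H) • t, MulAction.mem_orbit t _⟩ ⟨t, MulAction.mem_orbit_self t⟩))
  have hT : Nat.card T + 1 = Nat.card U := by
    haveI := Fintype.ofFinite U
    let e : T ≃ {u : U // u ≠ 1} :=
      { toFun := fun u => ⟨⟨u.1, u.2.1⟩, fun h => u.2.2 (congrArg Subtype.val h)⟩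
        invFun := fun u => ⟨u.1.1, u.1.2, fun h => u.2 (Subtype.ext h)⟩
        left_inv := fun u => rfl
        right_inv := fun u => rfl }
    rw [Nat.card_congr e, Nat.card_eq_fintype_card, Fintype.card_subtype_compl, Fintype.card_subtype_eq,
      ← Nat.card_eq_fintype_card]
    have := Nat.card_pos (α := U)
    omega
  have hle : Nat.card (MulAction.orbit H t) ≤ Nat.card T := Nat.card_le_card_of_injective _ Subtype.val_injective
  have hp_le : p ≤ Nat.card (MulAction.orbit H t) := by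
    rw [hj]; exact Nat.le_self_pow hne p
  refine ⟨by omega, fun hU u hu hu1 => ?_⟩
  have hbij : Function.Bijective (Subtype.val : MulAction.orbit H t → T) :=
    (Nat.bijective_iff_injective_and_card _).mpr ⟨Subtype.val_injective, by
      show Nat.card (MulAction.orbit H t) = Nat.card T
      omega⟩
  obtain ⟨⟨o, ho⟩, he⟩ := hbij.2 ⟨u, hu, hu1⟩
  obtain ⟨h, hh⟩ := ho
  obtain ⟨i, hi⟩ := (isOfFinOrder_of_finite g).mem_powers_iff_mem_zpowers.mpr h.2
  simp only at hi he
  refine ⟨i, ?_⟩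
  rw [hi]
  have := congrArg Subtype.val (hh.trans he)
  exact this

/-- Subgroups of coprime orders normalizing each other commute. -/
theorem commute_of_normalizing {A B : Subgroup G} (hcop : (Nat.card A).Coprime (Nat.card B))
    {a b : G} (ha : a ∈ A) (hb : b ∈ B) (hab : a ∈ Subgroup.normalizer (B : Set G))
    (hba : b ∈ Subgroup.normalizer (A : Set G)) : a * b = b * a := by
  have h1 : a * b * a⁻¹ * b⁻¹ ∈ B := mul_mem ((Subgroup.mem_normalizer_iff.mp hab b).mp hb) (inv_mem hb)
  have h2 : a * b * a⁻¹ * b⁻¹ ∈ A := by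
    have := mul_mem ha ((Subgroup.mem_normalizer_iff.mp hba a⁻¹).mp (inv_mem ha))
    simpa [mul_assoc] using this
  have e : a * b * a⁻¹ * b⁻¹ = 1 := by
    rw [← orderOf_eq_one_iff]
    exact Nat.eq_one_of_dvd_coprimes hcop (A.orderOf_dvd_natCard h2) (B.orderOf_dvd_natCard h1)
  rwa [mul_inv_eq_one, mul_inv_eq_iff_eq_mul] at e

/-- A fixed-point-free involution inverts an abelian group of odd order. -/
theorem inverts {p : ℕ} [hp : Fact p.Prime] (hp2 : p ≠ 2) {A : Subgroup G} (hA : IsPGroup p A)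
    (hAc : ∀ a ∈ A, ∀ b ∈ A, a * b = b * a) {t : G} (ht : t * t = 1)
    (hn : t ∈ Subgroup.normalizer (A : Set G)) (hfix : ∀ a ∈ A, t * a = a * t → a = 1) :
    ∀ a ∈ A, t * a * t⁻¹ = a⁻¹ := by
  intro a ha
  set b := t * a * t⁻¹
  have hb : b ∈ A := (Subgroup.mem_normalizer_iff.mp hn a).mp ha
  have hi : t⁻¹ = t := inv_eq_of_mul_eq_one_right ht
  have hbt : t * b * t⁻¹ = a := by
    show t * (t * a * t⁻¹) * t⁻¹ = a
    rw [hi, show t * (t * a * t) * t = (t * t) * a * (t * t) by group, ht, one_mul, mul_one]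
  have h1 : t * (a * b) * t⁻¹ = a * b := by
    calc t * (a * b) * t⁻¹ = (t * a * t⁻¹) * (t * b * t⁻¹) := by group
      _ = b * a := by rw [hbt]
      _ = a * b := (hAc a ha b hb).symm
  have h2 := hfix _ (mul_mem ha hb) (mul_inv_eq_iff_eq_mul.mp h1)
  exact eq_inv_of_mul_eq_one_right h2

/-- In a soluble `{2, p}`-group without normal `p`-subgroups, `O_2` contains its centralizer. -/
theorem centralizer_pCore_two_le {M : Type u} [Group M] [Finite M] [Group.IsSolvable M] {p : ℕ}
    (hpr : ∀ s : ℕ, s.Prime → s ∣ Nat.card M → s = p ∨ s = 2) (h : Cfsg.pCore p M = ⊥) :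
    Subgroup.centralizer (Cfsg.pCore 2 M : Set M) ≤ Cfsg.pCore 2 M := by
  have hF : Cfsg.fittingSubgroup M ≤ Cfsg.pCore 2 M := by
    rw [Cores.fittingSubgroup_eq_iSup_pCore]
    refine iSup_le fun q => ?_
    haveI := Fact.mk q.2
    rcases (Cores.pCore_isPGroup (G := M) (p := (q : ℕ))).card_eq_or_dvd with h1 | h1
    · rw [Subgroup.card_eq_one.mp h1]; exact bot_le
    · rcases hpr q q.2 (h1.trans (Subgroup.card_subgroup_dvd_card _)) with e | e
      · rw [e, h]; exact bot_le
      · rw [e]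
  haveI : Fact (Nat.Prime 2) := ⟨Nat.prime_two⟩
  calc Subgroup.centralizer (Cfsg.pCore 2 M : Set M)
      ≤ Subgroup.centralizer (Cfsg.fittingSubgroup M : Set M) := Subgroup.centralizer_le hF
    _ ≤ Cfsg.fittingSubgroup M := Cores.centralizer_fittingSubgroup_le
    _ ≤ Cfsg.pCore 2 M := hF

/-- The data of a minimal counterexample. -/
structure Cex (G : Type u) [Group G] [Finite G] (p : ℕ) : Prop where
  prime : p.Prime
  ne_two : p ≠ 2
  dvd : p ∣ Nat.card G
  two_dvd : 2 ∣ Nat.card G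
  third : ∃ r : ℕ, r.Prime ∧ r ≠ p ∧ r ≠ 2 ∧ r ∣ Nat.card G
  simple : ∀ N : Subgroup G, N.Normal → N = ⊥ ∨ N = ⊤
  proper : ∀ H : Subgroup G, H ≠ ⊤ → 2 ∣ Nat.card H → ∀ s : ℕ, s.Prime → s ∣ Nat.card H → s = p ∨ s = 2
  abelian : ∀ P : Sylow p G, IsMulCommutative P
  card_two : ∀ Q : Sylow 2 G, Nat.card Q = p + 1
  exp_two : ∀ Q : Sylow 2 G, ∀ u ∈ (Q : Subgroup G), u * u = 1
  trans : ∀ Q : Sylow 2 G, ∀ u ∈ (Q : Subgroup G), ∀ v ∈ (Q : Subgroup G), u ≠ 1 → v ≠ 1 →
    ∃ (g : G) (k : ℕ), g ^ p ^ k = 1 ∧ g ∈ Subgroup.normalizer ((Q : Subgroup G) : Set G) ∧ g * u * g⁻¹ = v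

namespace Cex

variable {p : ℕ}

theorem comm_two (h : Cex G p) (Q : Sylow 2 G) : ∀ u ∈ (Q : Subgroup G), ∀ v ∈ (Q : Subgroup G), u * v = v * u := by
  intro u hu v hv
  have hi : ∀ w ∈ (Q : Subgroup G), w⁻¹ = w := fun w hw => inv_eq_of_mul_eq_one_right (h.exp_two Q w hw)
  calc u * v = (u * v)⁻¹ := (hi _ (mul_mem hu hv)).symm
    _ = v * u := by rw [mul_inv_rev, hi u hu, hi v hv]

theorem comm_p (h : Cex G p) (P : Sylow p G) : ∀ u ∈ (P : Subgroup G), ∀ v ∈ (P : Subgroup G), u * v = v * u :=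
  fun u hu v hv => congrArg Subtype.val (isMulCommutative_iff.mp (h.abelian P) ⟨u, hu⟩ ⟨v, hv⟩)

theorem coprime (h : Cex G p) : p.Coprime 2 := (Nat.coprime_primes h.prime Nat.prime_two).mpr h.ne_two

theorem not_top_of_isPGroup (h : Cex G p) {H : Subgroup G} {q : ℕ} (hq : q.Prime) (hH : IsPGroup q H) :
    H ≠ ⊤ := by
  intro e
  haveI := Fact.mk hq
  obtain ⟨k, hk⟩ := hH.exists_card_eq
  rw [e, Subgroup.card_top] at hk
  have h1 := (Nat.prime_dvd_prime_iff_eq h.prime hq).mp (h.prime.dvd_of_dvd_pow (hk ▸ h.dvd))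
  have h2 := (Nat.prime_dvd_prime_iff_eq Nat.prime_two hq).mp (Nat.prime_two.dvd_of_dvd_pow (hk ▸ h.two_dvd))
  exact h.ne_two (h1.trans h2.symm)

theorem normalizer_ne_top (h : Cex G p) {H : Subgroup G} (hbot : H ≠ ⊥) (htop : H ≠ ⊤) :
    Subgroup.normalizer (H : Set G) ≠ ⊤ := fun e =>
  (h.simple H (Subgroup.normalizer_eq_top_iff.mp e)).elim hbot htop

theorem normalizer_zpowers_ne_top (h : Cex G p) {g : G} (hg : g ≠ 1) :
    Subgroup.normalizer (Subgroup.zpowers g : Set G) ≠ ⊤ := by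
  refine h.normalizer_ne_top (fun e => hg (Subgroup.zpowers_eq_bot.mp e)) fun e => ?_
  -- the group would be cyclic, hence of prime order
  haveI : Fact p.Prime := ⟨h.prime⟩
  obtain ⟨P⟩ := (inferInstance : Nonempty (Sylow p G))
  have hP : ((P : Subgroup G)).Normal := ⟨fun a ha b => by
    obtain ⟨i, rfl⟩ := (e ▸ Subgroup.mem_top b : b ∈ Subgroup.zpowers g)
    obtain ⟨j, rfl⟩ := (e ▸ Subgroup.mem_top a : a ∈ Subgroup.zpowers g)
    rw [← zpow_add, ← zpow_neg, ← zpow_add, show i + j + -i = j by ring]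
    exact ha⟩
  rcases h.simple _ hP with e' | e'
  · have := P.dvd_card_of_dvd_card h.dvd
    rw [e', Subgroup.card_bot] at this
    exact h.prime.not_dvd_one this
  · exact h.not_top_of_isPGroup h.prime P.isPGroup' e'

theorem centralizer_le_normalizer_zpowers (g : G) :
    Subgroup.centralizer ({g} : Set G) ≤ Subgroup.normalizer (Subgroup.zpowers g : Set G) := by
  intro c hc
  have hcg : c * g = g * c := Subgroup.mem_centralizer_singleton_iff.mp hc
  rw [Subgroup.mem_normalizer_iff]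
  intro y
  constructor
  · rintro ⟨i, rfl⟩
    refine ⟨i, ?_⟩
    show g ^ i = c * g ^ i * c⁻¹
    rw [((show Commute c g from hcg).zpow_right i).eq, mul_inv_cancel_right]
  · rintro ⟨i, hi⟩
    refine ⟨i, ?_⟩
    have h1 : c * g ^ i = g ^ i * c := ((show Commute c g from hcg).zpow_right i).eq
    simp only at hi ⊢
    exact mul_left_cancel (a := c) (mul_right_cancel (b := c⁻¹) (by rw [h1, mul_inv_cancel_right, hi]))

theorem centralizer_ne_top (h : Cex G p) {g : G} (hg : g ≠ 1) : Subgroup.centralizer ({g} : Set G) ≠ ⊤ :=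
  fun e => h.normalizer_zpowers_ne_top hg (top_le_iff.mp (e ▸ centralizer_le_normalizer_zpowers g))

/-- A `p`-element normalizing a Sylow 2-subgroup and fixing one of its involutions centralizes it. -/
theorem fix_all (h : Cex G p) (Q : Sylow 2 G) {g : G} {k : ℕ} (hgk : g ^ p ^ k = 1)
    (hg : g ∈ Subgroup.normalizer ((Q : Subgroup G) : Set G)) {u : G} (hu : u ∈ (Q : Subgroup G))
    (hu1 : u ≠ 1) (hgu : g * u = u * g) : ∀ w ∈ (Q : Subgroup G), g * w = w * g := by
  haveI := Fact.mk h.prime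
  intro w hw
  by_contra hne
  obtain ⟨-, h2⟩ := moved_card hgk hg hw (fun e => hne (mul_inv_eq_iff_eq_mul.mp e))
  obtain ⟨i, hi⟩ := h2 (h.card_two Q).le u hu hu1
  have hc : g ^ i * u = u * g ^ i := ((show Commute g u from hgu).pow_left i).eq
  have e : w = u := by
    calc w = (g ^ i)⁻¹ * (g ^ i * w * (g ^ i)⁻¹) * g ^ i := by group
      _ = u := by rw [hi, mul_assoc, ← hc]; group
  exact hne (e ▸ hgu)

theorem solvable (h : Cex G p) {H : Subgroup G} (hH : H ≠ ⊤) (h2 : 2 ∣ Nat.card H) :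
    Group.IsSolvable H :=
  Char.solvable_of_card_eq_pow_mul_pow p 2 h.prime Nat.prime_two _ rfl (h.proper H hH h2)

theorem two_dvd_of_le (h : Cex G p) (Q : Sylow 2 G) {H : Subgroup G} (hQ : (Q : Subgroup G) ≤ H) :
    2 ∣ Nat.card H := by
  haveI : Fact (Nat.Prime 2) := ⟨Nat.prime_two⟩
  exact (Q.dvd_card_of_dvd_card h.two_dvd).trans (Subgroup.card_dvd_of_le hQ)

/-- A proper subgroup containing a Sylow 2-subgroup normalizes it or a Sylow `p`-subgroup. -/
theorem overgroup (h : Cex G p) (Q : Sylow 2 G) {L : Subgroup G} (hL : L ≠ ⊤) (hQL : (Q : Subgroup G) ≤ L) :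
    L ≤ Subgroup.normalizer ((Q : Subgroup G) : Set G) ∨
      ∃ P : Sylow p G, L ≤ Subgroup.normalizer ((P : Subgroup G) : Set G) := by
  classical
  haveI := Fact.mk h.prime
  haveI : Fact (Nat.Prime 2) := ⟨Nat.prime_two⟩
  have h2L := h.two_dvd_of_le Q hQL
  haveI := h.solvable hL h2L
  by_cases h0 : Cfsg.pCore p L = ⊥
  · left
    have hC := centralizer_pCore_two_le (h.proper L hL h2L) h0
    have hO : Cfsg.pCore 2 L ≤ (Q : Subgroup G).subgroupOf L := by
      have := Cores.pCore_le_sylow (Q.subtype hQL)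
      rwa [Sylow.coe_subtype] at this
    have heq : (Q : Subgroup G).subgroupOf L = Cfsg.pCore 2 L := by
      refine le_antisymm (fun x hx => hC (Subgroup.mem_centralizer_iff.mpr fun y hy => Subtype.ext ?_)) hO
      exact h.comm_two Q _ (hO hy) _ hx
    intro g hg
    haveI : ((Q : Subgroup G).subgroupOf L).Normal := heq ▸ inferInstance
    exact (Subgroup.normal_subgroupOf_iff_le_normalizer hQL).mp inferInstance hg
  · set A₀ := (Cfsg.pCore p L).map L.subtype with hA₀
    have hA₀p : IsPGroup p A₀ := (Cores.pCore_isPGroup (G := L) (p := p)).map _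
    have hA₀ne : A₀ ≠ ⊥ := fun e => h0 ((Subgroup.map_eq_bot_iff_of_injective _ L.subtype_injective).mp e)
    set M := Subgroup.normalizer (A₀ : Set G) with hM
    have hMtop : M ≠ ⊤ := h.normalizer_ne_top hA₀ne (h.not_top_of_isPGroup h.prime hA₀p)
    have hLM : L ≤ M := by
      intro g hg
      rw [hM, Subgroup.mem_normalizer_iff]
      intro y
      have hn := (inferInstance : (Cfsg.pCore p L).Normal).conj_mem
      constructor
      · rintro ⟨z, hz, rfl⟩
        exact ⟨⟨g, hg⟩ * z * ⟨g, hg⟩⁻¹, hn z hz _, rfl⟩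
      · rintro ⟨z, hz, hzy⟩
        refine ⟨⟨g, hg⟩⁻¹ * z * ⟨g, hg⟩, by simpa using hn z hz ⟨g, hg⟩⁻¹, ?_⟩
        show g⁻¹ * (z : G) * g = y
        rw [show (z : G) = g * y * g⁻¹ from hzy]; group
    obtain ⟨P, hP⟩ := hA₀p.exists_le_sylow
    have hPM : (P : Subgroup G) ≤ M := fun g hg => by
      rw [hM, Subgroup.mem_normalizer_iff]
      intro y
      constructor
      · intro hy; rw [h.comm_p P g hg y (hP hy), mul_inv_cancel_right]; exact hy
      · intro hy
        have e := h.comm_p P g hg _ (hP hy)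
        have : y = g * y * g⁻¹ := by
          calc y = g⁻¹ * ((g * y * g⁻¹) * g) := by group
            _ = g⁻¹ * (g * (g * y * g⁻¹)) := by rw [e]
            _ = g * y * g⁻¹ := by group
        rw [this]; exact hy
    have hQM : (Q : Subgroup G) ≤ M := hQL.trans hLM
    have h2M := h.two_dvd_of_le Q hQM
    haveI := h.solvable hMtop h2M
    set A := Cfsg.pCore p M with hA
    have hAP : ∀ a ∈ A, (a : G) ∈ (P : Subgroup G) := fun a ha => by
      have := Cores.pCore_le_sylow (P.subtype hPM) ha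
      rwa [Sylow.coe_subtype] at this
    let π := QuotientGroup.mk' A
    haveI : Group.IsSolvable (M ⧸ A) := solvable_of_surjective (QuotientGroup.mk'_surjective A)
    have hC := centralizer_pCore_two_le (M := M ⧸ A)
      (fun s hs hd => h.proper M hMtop h2M s hs (hd.trans (Subgroup.card_quotient_dvd_card A)))
      Cores.pCore_quotient_pCore_eq_bot
    set Q' := (Q : Subgroup G).subgroupOf M with hQ'
    set K := (Cfsg.pCore 2 (M ⧸ A)).comap π with hK
    haveI : K.Normal := Subgroup.Normal.comap inferInstance _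
    have hQK : Q' ≤ K := by
      intro x hx
      refine hC (Subgroup.mem_centralizer_iff.mpr fun q hq => ?_)
      have hle := Cores.pCore_le_sylow ((Q.subtype hQM).mapSurjective (QuotientGroup.mk'_surjective A))
      rw [Sylow.coe_mapSurjective, Sylow.coe_subtype] at hle
      obtain ⟨z, hz, rfl⟩ := hle hq
      show π z * π x = π x * π z
      rw [← map_mul, ← map_mul, show z * x = x * z from Subtype.ext (h.comm_two Q _ hz _ hx)]
    have hfr : Subgroup.normalizer (Q' : Set M) ⊔ K = ⊤ := by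
      have hs : ((Q.subtype hQM : Sylow 2 M) : Subgroup M) ≤ K := by rw [Sylow.coe_subtype]; exact hQK
      have h1 := Sylow.normalizer_sup_eq_top (N := K) (Sylow.subtype (Q.subtype hQM) hs)
      rwa [Sylow.coe_subtype, Sylow.coe_subtype, Subgroup.map_subgroupOf_eq_of_le hQK] at h1
    have hKdec : ∀ m ∈ K, ∃ a ∈ A, ∃ u ∈ Q', m = a * u := by
      intro m hm
      have hle := Cores.pCore_le_sylow ((Q.subtype hQM).mapSurjective (QuotientGroup.mk'_surjective A))
      rw [Sylow.coe_mapSurjective, Sylow.coe_subtype] at hle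
      obtain ⟨u, hu, hum⟩ := hle hm
      refine ⟨m * u⁻¹, ?_, u, hu, by group⟩
      rw [← QuotientGroup.eq_one_iff, QuotientGroup.mk_mul, QuotientGroup.mk_inv, mul_inv_eq_one]
      exact hum.symm
    have hdec : ∀ m : M, ∃ a ∈ A, ∃ n ∈ Subgroup.normalizer (Q' : Set M), m = a * n := by
      intro m
      obtain ⟨k, hk, n, hn, rfl⟩ := Subgroup.mem_sup_of_normal_left.mp
        (by rw [sup_comm, hfr]; exact Subgroup.mem_top m : m ∈ K ⊔ Subgroup.normalizer (Q' : Set M))
      obtain ⟨a, ha, u, hu, rfl⟩ := hKdec k hk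
      exact ⟨a, ha, u * n, mul_mem (Subgroup.le_normalizer hu) hn, by group⟩
    have hnorm : ∀ n ∈ Subgroup.normalizer (Q' : Set M), (n : G) ∈ Subgroup.normalizer ((Q : Subgroup G) : Set G) := by
      intro n hn
      rw [Subgroup.mem_normalizer_iff]
      intro y
      constructor
      · intro hy
        exact (Subgroup.mem_normalizer_iff.mp hn ⟨y, hQM hy⟩).mp hy
      · intro hy
        have hyM : y ∈ M := by
          have := mul_mem (mul_mem (inv_mem n.2) (hQM hy)) n.2
          rwa [show (n : G)⁻¹ * ((n : G) * y * (n : G)⁻¹) * n = y by group] at this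
        exact (Subgroup.mem_normalizer_iff.mp hn ⟨y, hyM⟩).mpr hy
    by_cases hall : ∀ n ∈ Subgroup.normalizer (Q' : Set M), (n : G) ∈ (P : Subgroup G) →
        ∀ u ∈ (Q : Subgroup G), (n : G) * u = u * n
    · right
      refine ⟨P, hLM.trans fun g hg => ?_⟩
      -- the Sylow subgroup is the core
      have hPA : ∀ x : M, (x : G) ∈ (P : Subgroup G) → x ∈ A := by
        intro x hx
        obtain ⟨a, ha, n, hn, rfl⟩ := hdec x
        have hnP : (n : G) ∈ (P : Subgroup G) := by
          have := mul_mem (inv_mem (hAP a ha)) hx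
          simpa using this
        have hmem : π n ∈ Cfsg.pCore 2 (M ⧸ A) := hC (Subgroup.mem_centralizer_iff.mpr fun q hq => by
          have hle := Cores.pCore_le_sylow ((Q.subtype hQM).mapSurjective (QuotientGroup.mk'_surjective A))
          rw [Sylow.coe_mapSurjective, Sylow.coe_subtype] at hle
          obtain ⟨z, hz, rfl⟩ := hle hq
          show π z * π n = π n * π z
          rw [← map_mul, ← map_mul, show z * n = n * z from Subtype.ext (hall n hn hnP _ hz).symm])
        have h1 : π n = 1 := by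
          obtain ⟨i, hi⟩ := exists_pow_eq_one P.isPGroup' hnP
          obtain ⟨j, hj⟩ := exists_pow_eq_one Cores.pCore_isPGroup hmem
          refine eq_one_of_pow h.coprime (i := i) (j := j) ?_ hj
          rw [← map_pow, show n ^ p ^ i = 1 from Subtype.ext hi, map_one]
        exact mul_mem ha ((QuotientGroup.eq_one_iff n).mp h1)
      rw [Subgroup.mem_normalizer_iff]
      intro y
      constructor
      · intro hy
        exact hAP _ ((inferInstance : A.Normal).conj_mem ⟨y, hPM hy⟩ (hPA _ hy) ⟨g, hg⟩)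
      · intro hy
        have := hAP _ ((inferInstance : A.Normal).conj_mem ⟨_, hPM hy⟩ (hPA _ hy) ⟨g, hg⟩⁻¹)
        simp only [Subgroup.coe_mul, Subgroup.coe_inv, inv_inv] at this
        rwa [show g⁻¹ * (g * y * g⁻¹) * g = y by group] at this
    · left
      push Not at hall
      obtain ⟨n, hn, hnP, u, hu, hnu⟩ := hall
      have hQA : ∀ w ∈ (Q : Subgroup G), ∀ a ∈ A, w * (a : G) = a * w := by
        set v := (n : G) * u * (n : G)⁻¹ * u⁻¹ with hv
        have hvQ : v ∈ (Q : Subgroup G) := mul_mem ((Subgroup.mem_normalizer_iff.mp (hnorm n hn) u).mp hu) (inv_mem hu)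
        have hv1 : v ≠ 1 := fun e => hnu (mul_inv_eq_iff_eq_mul.mp (mul_inv_eq_one.mp e))
        have hvA : ∀ a ∈ A, v * (a : G) = a * v := by
          intro a ha
          have hc : ∀ b ∈ A, (n : G) * b * (n : G)⁻¹ = b := fun b hb => by
            rw [h.comm_p P _ hnP _ (hAP b hb), mul_inv_cancel_right]
          set b : M := (⟨u, hQM hu⟩ : M)⁻¹ * a * ⟨u, hQM hu⟩
          have hbA : b ∈ A := by
            have := (inferInstance : A.Normal).conj_mem a ha (⟨u, hQM hu⟩ : M)⁻¹
            rwa [inv_inv] at this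
          rw [← mul_inv_eq_iff_eq_mul]
          calc v * (a : G) * v⁻¹ = (n : G) * (u * ((n : G)⁻¹ * (b : G) * n) * u⁻¹) * (n : G)⁻¹ := by
                simp only [v, b, Subgroup.coe_mul, Subgroup.coe_inv]; group
            _ = (n : G) * (u * (b : G) * u⁻¹) * (n : G)⁻¹ := by
                have e1 : (n : G)⁻¹ * (b : G) * n = b := by nth_rw 1 [← hc b hbA]; group
                rw [e1]
            _ = (n : G) * (a : G) * (n : G)⁻¹ := by
                simp only [b, Subgroup.coe_mul, Subgroup.coe_inv]; group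
            _ = a := hc a ha
        intro w hw a ha
        by_cases hw1 : w = 1
        · simp [hw1]
        haveI := Fact.mk h.prime
        obtain ⟨i, hi⟩ := exists_pow_eq_one P.isPGroup' hnP
        have hmv : (n : G) * v * (n : G)⁻¹ ≠ v := fun e => hnu
          (h.fix_all Q hi (hnorm n hn) hvQ hv1 (mul_inv_eq_iff_eq_mul.mp e) u hu)
        obtain ⟨j, hj⟩ := (moved_card hi (hnorm n hn) hvQ hmv).2 (h.card_two Q).le w hw hw1
        have hc : (n : G) ^ j * (a : G) = a * (n : G) ^ j :=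
          ((show Commute (n : G) a from h.comm_p P _ hnP _ (hAP a ha)).pow_left j).eq
        rw [← hj]
        exact (((show Commute ((n : G) ^ j) (a : G) from hc).mul_left
          (show Commute v (a : G) from hvA a ha)).mul_left
          ((show Commute ((n : G) ^ j) (a : G) from hc).inv_left)).eq
      refine hLM.trans fun g hg => ?_
      obtain ⟨a, ha, n', hn', e⟩ := hdec ⟨g, hg⟩
      have e' : g = (a : G) * n' := congrArg Subtype.val e
      rw [e']
      refine mul_mem ?_ (hnorm n' hn')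
      rw [Subgroup.mem_normalizer_iff]
      intro y
      constructor
      · intro hy; rw [← hQA y hy a ha, mul_inv_cancel_right]; exact hy
      · intro hy
        have := hQA _ hy a ha
        have e2 : y = (a : G) * y * (a : G)⁻¹ := by
          calc y = (a : G)⁻¹ * (((a : G) * y * (a : G)⁻¹) * a) := by group
            _ = (a : G)⁻¹ * ((a : G) * ((a : G) * y * (a : G)⁻¹)) := by rw [this]
            _ = (a : G) * y * (a : G)⁻¹ := by group
        rw [e2]; exact hy

end Cex

end Cfsg.Agent.MixedPrime
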