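import Mathlib
import Cfsg.Agent.MixedPrime.Basic
import Cfsg.Agent.Transfer.Fusion

/-!
# The two cases of a minimal counterexample
-/

set_option autoImplicit false
set_option linter.all false

namespace Cfsg.Agent.MixedPrime

open Cfsg Cfsg.Agent
open scoped Pointwise commutatorElement

universe u

variable {G : Type u} [Group G] [Finite G] {p : ℕ}

namespace Cex

theorem smul_iff {q : ℕ} {g : G} {P : Sylow q G} :
    g • P = P ↔ g ∈ Subgroup.normalizer ((P : Subgroup G) : Set G) := Sylow.smul_eq_iff_mem_normalizer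

theorem conj_mem_normalizer {g y : G} {H : Subgroup G} (hy : y ∈ H)
    (hg : g ∈ Subgroup.normalizer (H : Set G)) : g * y * g⁻¹ ∈ H :=
  (Subgroup.mem_normalizer_iff.mp hg y).mp hy

theorem p_mem_of_normalizer (h : Cex G p) {P : Sylow p G} {g : G}
    (hg : g ∈ Subgroup.normalizer ((P : Subgroup G) : Set G)) {k : ℕ} (hk : g ^ p ^ k = 1) :
    g ∈ (P : Subgroup G) := by
  haveI := Fact.mk h.prime
  obtain ⟨R, hR⟩ := exists_sylow_mem hk
  set N := Subgroup.normalizer ((P : Subgroup G) : Set G)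
  have hle : (P : Subgroup G) ≤ N := Subgroup.le_normalizer
  haveI : ((P : Subgroup G).subgroupOf N).Normal := Subgroup.normal_in_normalizer
  haveI : ((P.subtype hle : Sylow p N) : Subgroup N).Normal := by
    rw [Sylow.coe_subtype]; infer_instance
  obtain ⟨S, hS⟩ := exists_sylow_mem (G := N) (g := ⟨g, hg⟩) (p := p) (k := k) (Subtype.ext hk)
  haveI := Sylow.unique_of_normal (P.subtype hle) inferInstance
  rw [Subsingleton.elim S (P.subtype hle), Sylow.coe_subtype] at hS
  exact hS

theorem two_mem_of_normalizer (h : Cex G p) {Q : Sylow 2 G} {g : G}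
    (hg : g ∈ Subgroup.normalizer ((Q : Subgroup G) : Set G)) {k : ℕ} (hk : g ^ 2 ^ k = 1) :
    g ∈ (Q : Subgroup G) := by
  haveI : Fact (Nat.Prime 2) := ⟨Nat.prime_two⟩
  set N := Subgroup.normalizer ((Q : Subgroup G) : Set G)
  have hle : (Q : Subgroup G) ≤ N := Subgroup.le_normalizer
  haveI : ((Q : Subgroup G).subgroupOf N).Normal := Subgroup.normal_in_normalizer
  haveI : ((Q.subtype hle : Sylow 2 N) : Subgroup N).Normal := by
    rw [Sylow.coe_subtype]; infer_instance
  obtain ⟨S, hS⟩ := exists_sylow_mem (G := N) (g := ⟨g, hg⟩) (p := 2) (k := k) (Subtype.ext hk)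
  haveI := Sylow.unique_of_normal (Q.subtype hle) inferInstance
  rw [Subsingleton.elim S (Q.subtype hle), Sylow.coe_subtype] at hS
  exact hS

theorem card_coprime (h : Cex G p) (P : Sylow p G) (Q : Sylow 2 G) :
    (Nat.card (P : Subgroup G)).Coprime (Nat.card (Q : Subgroup G)) := by
  haveI := Fact.mk h.prime
  haveI : Fact (Nat.Prime 2) := ⟨Nat.prime_two⟩
  rw [P.card_eq_multiplicity, Q.card_eq_multiplicity]
  exact (h.coprime.pow_left _).pow_right _

theorem exists_sylow_two (h : Cex G p) {t : G} (ht : t * t = 1) :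
    ∃ Q : Sylow 2 G, t ∈ (Q : Subgroup G) := by
  haveI : Fact (Nat.Prime 2) := ⟨Nat.prime_two⟩
  exact exists_sylow_mem (g := t) (k := 1) (by rw [pow_one, pow_two, ht])

theorem conj_involution (h : Cex G p) {s t : G} (hs : s * s = 1) (hs1 : s ≠ 1) (ht : t * t = 1)
    (ht1 : t ≠ 1) : ∃ g : G, g * s * g⁻¹ = t := by
  haveI : Fact (Nat.Prime 2) := ⟨Nat.prime_two⟩
  obtain ⟨Q, hQ⟩ := h.exists_sylow_two hs
  obtain ⟨R, hR⟩ := h.exists_sylow_two ht
  obtain ⟨c, rfl⟩ := MulAction.exists_smul_eq G Q R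
  rw [Sylow.coe_subgroup_smul, Subgroup.mem_pointwise_smul_iff_inv_smul_mem, ← map_inv,
    MulAut.smul_def, MulAut.conj_apply, inv_inv] at hR
  obtain ⟨g, k, -, -, hg⟩ := h.trans Q s hQ _ hR hs1 (fun e => ht1 (by
    calc t = c * (c⁻¹ * t * c) * c⁻¹ := by group
      _ = 1 := by rw [e]; group))
  exact ⟨c * g, by rw [show c * g * s * (c * g)⁻¹ = c * (g * s * g⁻¹) * c⁻¹ by group, hg]; group⟩

theorem mem_centralizer_iff' {g x : G} : g ∈ Subgroup.centralizer ({x} : Set G) ↔ g * x = x * g :=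
  Subgroup.mem_centralizer_singleton_iff

/-- If `Q` normalizes a Sylow `p`-subgroup, it fixes nothing nontrivial in it. -/
theorem fix_trivial (h : Cex G p) (P : Sylow p G) (Q : Sylow 2 G)
    (hQP : (Q : Subgroup G) ≤ Subgroup.normalizer ((P : Subgroup G) : Set G)) :
    ∀ z ∈ (P : Subgroup G), (∀ u ∈ (Q : Subgroup G), u * z = z * u) → z = 1 := by
  classical
  haveI := Fact.mk h.prime
  haveI : Fact (Nat.Prime 2) := ⟨Nat.prime_two⟩
  set N := Subgroup.normalizer ((P : Subgroup G) : Set G) with hN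
  have hPne : (P : Subgroup G) ≠ ⊥ := fun e => h.prime.not_dvd_one (by
    have := P.dvd_card_of_dvd_card h.dvd
    rwa [e, Subgroup.card_bot] at this)
  have hNtop : N ≠ ⊤ := h.normalizer_ne_top hPne (h.not_top_of_isPGroup h.prime P.isPGroup')
  have h2N := h.two_dvd_of_le Q hQP
  -- every element of the normalizer is a product
  have hdec : ∀ n ∈ N, ∃ v ∈ (P : Subgroup G), ∃ u ∈ (Q : Subgroup G), n = v * u := by
    have hPN : (P : Subgroup G) ≤ N := Subgroup.le_normalizer
    haveI : ((P : Subgroup G).subgroupOf N).Normal := Subgroup.normal_in_normalizer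
    have htop : (P : Subgroup G).subgroupOf N ⊔ (Q : Subgroup G).subgroupOf N = ⊤ := by
      refine Subgroup.eq_top_of_le_card _ (Nat.le_of_dvd Nat.card_pos ?_)
      set S := (P : Subgroup G).subgroupOf N ⊔ (Q : Subgroup G).subgroupOf N
      rw [Nat.dvd_iff_prime_pow_dvd_dvd]
      intro s k hs hk
      rcases Nat.eq_zero_or_pos k with rfl | hk0
      · simp
      haveI := Fact.mk hs
      have hsG : s ^ k ∣ Nat.card G := hk.trans (Subgroup.card_subgroup_dvd_card N)
      rcases h.proper N hNtop h2N s hs ((dvd_pow_self s hk0.ne').trans hk) with rfl | rfl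
      · refine (P.pow_dvd_card_of_pow_dvd_card hsG).trans ?_
        rw [← Nat.card_congr (Subgroup.subgroupOfEquivOfLe hPN).toEquiv]
        exact Subgroup.card_dvd_of_le le_sup_left
      · refine (Q.pow_dvd_card_of_pow_dvd_card hsG).trans ?_
        rw [← Nat.card_congr (Subgroup.subgroupOfEquivOfLe hQP).toEquiv]
        exact Subgroup.card_dvd_of_le le_sup_right
    intro n hn
    obtain ⟨v, hv, u, hu, e⟩ := Subgroup.mem_sup_of_normal_left.mp (htop ▸ Subgroup.mem_top (⟨n, hn⟩ : N))
    exact ⟨v, hv, u, hu, (congrArg Subtype.val e).symm⟩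
  haveI : IsMulCommutative (P : Subgroup G) := h.abelian P
  letI : CommGroup (P : Subgroup G) :=
    { (inferInstance : Group (P : Subgroup G)) with mul_comm := fun a b => Subtype.ext (h.comm_p P _ a.2 _ b.2) }
  haveI : Fintype (Q : Subgroup G) := Fintype.ofFinite _
  let c : ↥(Q : Subgroup G) → MulAut ↥(P : Subgroup G) := fun u =>
    Subgroup.normalizerMonoidHom (P : Subgroup G) ⟨u.1, hQP u.2⟩
  have hc : ∀ u x, ((c u x : (P : Subgroup G)) : G) = (u : G) * x * (u : G)⁻¹ := fun u x => rfl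
  let θ : (P : Subgroup G) →* (P : Subgroup G) :=
    MonoidHom.mk' (fun x => ∏ u : (Q : Subgroup G), c u x) (fun a b => by
      simp only [map_mul, Finset.prod_mul_distrib])
  have hθinv : ∀ (w : (Q : Subgroup G)) (x : (P : Subgroup G)), θ (c w x) = θ x := by
    intro w x
    show (∏ u, c u (c w x)) = ∏ u, c u x
    refine Fintype.prod_equiv (Equiv.mulRight w) _ _ fun u => Subtype.ext ?_
    rw [hc, hc, hc, Equiv.coe_mulRight, Subgroup.coe_mul]
    group
  have hfoc : (P : Subgroup G).focalSubgroup ≤ θ.ker.map (P : Subgroup G).subtype := by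
    rw [Subgroup.focalSubgroup_def, Subgroup.closure_le]
    rintro g ⟨hg, x, hx, w, rfl⟩
    have hy : w * x⁻¹ * w⁻¹ ∈ (P : Subgroup G) := by
      have := mul_mem (inv_mem hx) hg
      simpa [commutatorElement_def, mul_assoc] using this
    obtain ⟨n, hn, he⟩ := Transfer.controlsFusion_normalizer_of_abelian P (h.abelian P) x⁻¹ (inv_mem hx) w hy
    obtain ⟨v, hv, u, hu, rfl⟩ := hdec n hn
    refine ⟨⟨x, hx⟩ * c ⟨u, hu⟩ ⟨x⁻¹, inv_mem hx⟩, ?_, ?_⟩
    · show θ _ = 1
      rw [map_mul, hθinv, ← map_mul]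
      convert map_one θ
      exact Subtype.ext (mul_inv_cancel x)
    · have hb : u * x⁻¹ * u⁻¹ ∈ (P : Subgroup G) := conj_mem_normalizer (inv_mem hx) (hQP hu)
      have e1 : v * u * x⁻¹ * (v * u)⁻¹ = u * x⁻¹ * u⁻¹ := by
        calc v * u * x⁻¹ * (v * u)⁻¹ = v * (u * x⁻¹ * u⁻¹) * v⁻¹ := by group
          _ = u * x⁻¹ * u⁻¹ := by rw [h.comm_p P v hv _ hb, mul_inv_cancel_right]
      show x * (u * x⁻¹ * u⁻¹) = ⁅x, w⁆
      rw [commutatorElement_def, mul_assoc x w, mul_assoc x]
      rw [← e1]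
      first
        | rw [he]
        | rw [← he]
  intro z hz hzQ
  have hcom : commutator G = ⊤ := by
    refine (h.simple _ inferInstance).resolve_left fun e => ?_
    have hab : ∀ a b : G, a * b = b * a := fun a b => by
      have : ⁅a, b⁆ ∈ commutator G := Subgroup.commutator_mem_commutator (Subgroup.mem_top _) (Subgroup.mem_top _)
      rw [e, Subgroup.mem_bot, commutatorElement_eq_one_iff_mul_comm] at this
      exact this
    exact (h.simple (P : Subgroup G) ⟨fun a ha b => by rw [hab b a, mul_inv_cancel_right]; exact ha⟩).elim hPne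
      (h.not_top_of_isPGroup h.prime P.isPGroup')
  have hmem : z ∈ θ.ker.map (P : Subgroup G).subtype := hfoc (by
    rw [← Subgroup.commutator_inf_eq_focalSubgroup P, hcom, top_inf_eq]; exact hz)
  obtain ⟨z', hz', rfl⟩ := hmem
  have e : z' ^ Nat.card (Q : Subgroup G) = 1 := by
    have h1 : θ z' = 1 := hz'
    rw [← h1]
    show _ = ∏ u, c u z'
    rw [Nat.card_eq_fintype_card, ← Finset.card_univ, ← Finset.prod_const]
    refine Finset.prod_congr rfl fun u _ => Subtype.ext ?_
    rw [hc, show (u : G) * (z' : G) = (z' : G) * u from hzQ u u.2, mul_inv_cancel_right]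
  have hz1 : z' = 1 := by
    rw [← orderOf_eq_one_iff]
    exact Nat.eq_one_of_dvd_coprimes (h.card_coprime P Q) (orderOf_dvd_natCard z') (orderOf_dvd_of_pow_eq_one e)
  rw [hz1]; rfl

end Cex

end Cfsg.Agent.MixedPrime
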