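import Mathlib
import Cfsg.Agent.MixedPrime.Basic
import Cfsg.Agent.MixedPrime.Friendship
import Cfsg.Agent.Lib.FrobeniusCount
import Cfsg.Agent.MixedPrime.Tools

/-!
# The two cases of a minimal counterexample
-/

set_option autoImplicit false
set_option linter.all false

namespace Cfsg.Agent.MixedPrime

open Cfsg Cfsg.Agent
open scoped Pointwise commutatorElement

universe u

variable {G : Type u} [Group G] [Finite G] {p : ℕ}

namespace Cex

set_option maxHeartbeats 1000000 in
/-- Case one: a Sylow 2-subgroup normalizes a Sylow `p`-subgroup. -/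
theorem alpha (h : Cex G p) (Q : Sylow 2 G) (P₀ : Sylow p G)
    (hP₀ : (Q : Subgroup G) ≤ Subgroup.normalizer ((P₀ : Subgroup G) : Set G)) : False := by
  classical
  haveI := Fact.mk h.prime
  haveI : Fact (Nat.Prime 2) := ⟨Nat.prime_two⟩
  have hcop := h.card_coprime
  have hfix : ∀ (Q : Sylow 2 G) (P : Sylow p G), (Q : Subgroup G) ≤ Subgroup.normalizer ((P : Subgroup G) : Set G) →
      ∀ z ∈ (P : Subgroup G), z ∈ Subgroup.normalizer ((Q : Subgroup G) : Set G) → z = 1 := by
    intro Q P hQP z hz hzN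
    exact h.fix_trivial P Q hQP z hz fun u hu => (commute_of_normalizing (hcop P Q) hz hu hzN (hQP hu)).symm
  have hne1 : ∀ P : Sylow p G, ∃ z ∈ (P : Subgroup G), z ≠ 1 := fun P => by
    by_contra! e
    have := P.dvd_card_of_dvd_card h.dvd
    rw [(Subgroup.eq_bot_iff_forall _).mpr e, Subgroup.card_bot] at this
    exact h.prime.not_dvd_one this
  -- invariant Sylow subgroups meet trivially
  have hTI : ∀ (Q : Sylow 2 G) (P P' : Sylow p G), (Q : Subgroup G) ≤ Subgroup.normalizer ((P : Subgroup G) : Set G) →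
      (Q : Subgroup G) ≤ Subgroup.normalizer ((P' : Subgroup G) : Set G) →
      ∀ z ∈ (P : Subgroup G), z ∈ (P' : Subgroup G) → z ≠ 1 → P = P' := by
    intro Q P P' hQP hQP' z hz hz' hz1
    set I := (P : Subgroup G) ⊓ P' with hI
    have hIne : I ≠ ⊥ := fun e => hz1 (by
      have : z ∈ I := ⟨hz, hz'⟩
      rwa [e, Subgroup.mem_bot] at this)
    have hIp : IsPGroup p I := P.isPGroup'.to_le inf_le_left
    set L := Subgroup.normalizer (I : Set G)
    have hL := h.normalizer_ne_top hIne (h.not_top_of_isPGroup h.prime hIp)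
    have hQL : (Q : Subgroup G) ≤ L := fun u hu => by
      rw [Subgroup.mem_normalizer_iff]
      intro y
      exact Iff.and ((Subgroup.mem_normalizer_iff.mp (hQP hu)) y) ((Subgroup.mem_normalizer_iff.mp (hQP' hu)) y)
    have hPL : ∀ R : Sylow p G, I ≤ (R : Subgroup G) → (R : Subgroup G) ≤ L := fun R hR g hg => by
      rw [Subgroup.mem_normalizer_iff]
      intro y
      constructor
      · intro hy; rw [h.comm_p R g hg y (hR hy), mul_inv_cancel_right]; exact hy
      · intro hy
        have e := h.comm_p R g hg _ (hR hy)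
        have : y = g * y * g⁻¹ := by
          calc y = g⁻¹ * ((g * y * g⁻¹) * g) := by group
            _ = g⁻¹ * (g * (g * y * g⁻¹)) := by rw [e]
            _ = g * y * g⁻¹ := by group
        rw [this]; exact hy
    rcases h.overgroup Q hL hQL with hN | ⟨R, hR⟩
    · exact absurd (hfix Q P hQP z hz (hN (hPL P inf_le_left hz))) hz1
    · have key : ∀ S : Sylow p G, (S : Subgroup G) ≤ L → S = R := fun S hS => by
        refine Sylow.ext (Subgroup.eq_of_le_of_card_ge (fun g hg => ?_) (by rw [S.card_eq_multiplicity, R.card_eq_multiplicity]))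
        obtain ⟨k, hk⟩ := exists_pow_eq_one S.isPGroup' hg
        exact h.p_mem_of_normalizer (hR (hS hg)) hk
      rw [key P (hPL P inf_le_left), key P' (hPL P' inf_le_right)]
  -- centralizers of involutions
  have hC : ∀ (Q : Sylow 2 G) (P : Sylow p G), (Q : Subgroup G) ≤ Subgroup.normalizer ((P : Subgroup G) : Set G) →
      ∀ t ∈ (Q : Subgroup G), t ≠ 1 → ∀ z ∈ (P : Subgroup G), z ≠ 1 → z * t = t * z →
      Subgroup.centralizer ({t} : Set G) ≤ Subgroup.normalizer ((P : Subgroup G) : Set G) := by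
    intro Q P hQP t ht ht1 z hz hz1 hzt
    have hQC : (Q : Subgroup G) ≤ Subgroup.centralizer ({t} : Set G) := fun u hu =>
      mem_centralizer_iff'.mpr (h.comm_two Q u hu t ht)
    rcases h.overgroup Q (h.centralizer_ne_top ht1) hQC with hN | ⟨R, hR⟩
    · exact absurd (hfix Q P hQP z hz (hN (mem_centralizer_iff'.mpr hzt))) hz1
    · obtain ⟨k, hk⟩ := exists_pow_eq_one P.isPGroup' hz
      have hzR := h.p_mem_of_normalizer (hR (mem_centralizer_iff'.mpr hzt)) hk
      rwa [hTI Q P R hQP (hQC.trans hR) z hz hzR hz1]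
  have hexfix : ∀ (Q : Sylow 2 G) (P : Sylow p G), (Q : Subgroup G) ≤ Subgroup.normalizer ((P : Subgroup G) : Set G) →
      ∀ t ∈ (Q : Subgroup G), ∀ u ∈ (Q : Subgroup G),
      (∀ z ∈ (P : Subgroup G), t * z = z * t → z = 1) → (∀ z ∈ (P : Subgroup G), u * z = z * u → z = 1) →
      ∀ z ∈ (P : Subgroup G), (t * u) * z = z * (t * u) := by
    intro Q P hQP t ht u hu hft hfu z hz
    have it := inverts h.ne_two P.isPGroup' (h.comm_p P) (h.exp_two Q t ht) (hQP ht) hft
    have iu := inverts h.ne_two P.isPGroup' (h.comm_p P) (h.exp_two Q u hu) (hQP hu) hfu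
    rw [← mul_inv_eq_iff_eq_mul]
    calc t * u * z * (t * u)⁻¹ = t * (u * z * u⁻¹) * t⁻¹ := by group
      _ = z := by rw [iu z hz, it _ (inv_mem hz), inv_inv]
  -- `p` invariant Sylow subgroups
  obtain ⟨g, hgk, hgN, hgP⟩ : ∃ g : G, (∃ k : ℕ, g ^ p ^ k = 1) ∧
      g ∈ Subgroup.normalizer ((Q : Subgroup G) : Set G) ∧ g ∉ Subgroup.normalizer ((P₀ : Subgroup G) : Set G) := by
    have hQ2 : 1 < Nat.card (Q : Subgroup G) := by rw [h.card_two Q]; have := h.prime.two_le; omega
    obtain ⟨u, hu⟩ := Subgroup.ne_bot_iff_exists_ne_one.mp ((Subgroup.one_lt_card_iff_ne_bot _).mp hQ2)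
    obtain ⟨v, hv, hv'⟩ : ∃ v : G, v ∈ (Q : Subgroup G) ∧ v ≠ 1 ∧ v ≠ u := by
      by_contra! e
      have : Nat.card (Q : Subgroup G) ≤ 2 := by
        let f : ↥(Q : Subgroup G) → Bool := fun w => decide ((w : G) = 1)
        have hf : Function.Injective f := by
          intro a b hab
          simp only [f, decide_eq_decide] at hab
          by_cases ha : (a : G) = 1
          · exact Subtype.ext (ha.trans (hab.mp ha).symm)
          · exact Subtype.ext ((e _ a.2 ha).trans (e _ b.2 (fun hb => ha (hab.mpr hb))).symm)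
        have := Nat.card_le_card_of_injective f hf
        simpa using this
      rw [h.card_two Q] at this
      have := h.prime.two_le
      omega
    obtain ⟨g, k, hk, hg, hgu⟩ := h.trans Q u u.2 v hv (fun e => hu (Subtype.ext e)) hv'.1
    refine ⟨g, ⟨k, hk⟩, hg, fun hgP => ?_⟩
    rw [hfix Q P₀ hP₀ g (h.p_mem_of_normalizer hgP hk) hg] at hgu
    exact hv'.2 (by rw [← hgu]; group)
  let Ps : Fin p → Sylow p G := fun i => g ^ (i : ℕ) • P₀
  have hPs : ∀ i, (Q : Subgroup G) ≤ Subgroup.normalizer ((Ps i : Subgroup G) : Set G) := by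
    intro i u hu
    have hmem : (g ^ (i : ℕ))⁻¹ * u * g ^ (i : ℕ) ∈ (Q : Subgroup G) := by
      have := conj_mem_normalizer hu (inv_mem (pow_mem hgN (i : ℕ)))
      rwa [inv_inv] at this
    have h1 : ((g ^ (i : ℕ))⁻¹ * u * g ^ (i : ℕ)) • P₀ = P₀ :=
      smul_iff.mpr (hP₀ hmem)
    rw [← smul_iff]
    show u • g ^ (i : ℕ) • P₀ = g ^ (i : ℕ) • P₀
    rw [smul_smul, show u * g ^ (i : ℕ) = g ^ (i : ℕ) * ((g ^ (i : ℕ))⁻¹ * u * g ^ (i : ℕ)) by group, mul_smul, h1]
  have hPsinj : Function.Injective Ps := by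
    have key : ∀ i j : Fin p, (i : ℕ) < j → Ps i ≠ Ps j := by
      intro i j hij e
      obtain ⟨k, hk⟩ := hgk
      have h1 : g ^ ((j : ℕ) - i) ∈ Subgroup.normalizer ((P₀ : Subgroup G) : Set G) := by
        rw [← smul_iff]
        have e' : g ^ (i : ℕ) • g ^ ((j : ℕ) - i) • P₀ = g ^ (i : ℕ) • P₀ := by
          rw [smul_smul, ← pow_add, Nat.add_sub_cancel' hij.le]; exact e.symm
        exact MulAction.injective (g ^ (i : ℕ)) e'
      have hc : (orderOf g).Coprime ((j : ℕ) - i) := by
        obtain ⟨e0, -, he0⟩ := (Nat.dvd_prime_pow h.prime).mp (orderOf_dvd_of_pow_eq_one hk)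
        rw [he0]
        refine Nat.Coprime.pow_left _ ((Nat.Prime.coprime_iff_not_dvd h.prime).mpr fun hd => ?_)
        have := Nat.le_of_dvd (by omega) hd
        have := j.2
        omega
      obtain ⟨m, hm⟩ := exists_pow_eq_self_of_coprime hc.symm
      exact hgP (hm ▸ pow_mem h1 m)
    intro i j e
    rcases lt_trichotomy (i : ℕ) j with hl | hl | hl
    · exact absurd e (key i j hl)
    · exact Fin.ext hl
    · exact absurd e.symm (key j i hl)
  -- fixed elements
  let Fx : Fin p → G → Prop := fun i t => t ∈ (Q : Subgroup G) ∧ t ≠ 1 ∧ ∃ z ∈ (Ps i : Subgroup G), z ≠ 1 ∧ t * z = z * t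
  have hnfix : ∀ i, ∀ t ∈ (Q : Subgroup G), t ≠ 1 → ¬ Fx i t → ∀ z ∈ (Ps i : Subgroup G), t * z = z * t → z = 1 :=
    fun i t ht ht1 hn z hz e => by
      by_contra hz1
      exact hn ⟨ht, ht1, z, hz, hz1, e⟩
  have huniq : ∀ i j t, Fx i t → Fx j t → i = j := by
    rintro i j t ⟨ht, ht1, z, hz, hz1, e⟩ ⟨-, -, z', hz', hz1', e'⟩
    have hle := hC Q (Ps i) (hPs i) t ht ht1 z hz hz1 e.symm
    obtain ⟨k, hk⟩ := exists_pow_eq_one (Ps j).isPGroup' hz'
    have hz'i := h.p_mem_of_normalizer (hle (mem_centralizer_iff'.mpr e'.symm)) hk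
    exact hPsinj (hTI Q (Ps i) (Ps j) (hPs i) (hPs j) z' hz'i hz' hz1')
  have hcardQ : Nat.card {t : G // t ∈ (Q : Subgroup G) ∧ t ≠ 1} = p := by
    haveI := Fintype.ofFinite (Q : Subgroup G)
    let e : {t : G // t ∈ (Q : Subgroup G) ∧ t ≠ 1} ≃ {u : (Q : Subgroup G) // u ≠ 1} :=
      { toFun := fun u => ⟨⟨u.1, u.2.1⟩, fun h => u.2.2 (congrArg Subtype.val h)⟩
        invFun := fun u => ⟨u.1.1, u.1.2, fun h => u.2 (Subtype.ext h)⟩
        left_inv := fun u => rfl
        right_inv := fun u => rfl }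
    rw [Nat.card_congr e, Nat.card_eq_fintype_card, Fintype.card_subtype_compl, Fintype.card_subtype_eq,
      ← Nat.card_eq_fintype_card, h.card_two Q, Nat.add_sub_cancel]
  have hexists : ∀ i, ∃ t, Fx i t := by
    intro i
    by_contra! hno
    haveI : Nonempty {t : G // t ∈ (Q : Subgroup G) ∧ t ≠ 1} := (Nat.card_pos_iff.mp (hcardQ ▸ h.prime.pos)).1
    obtain ⟨t, ht⟩ := (inferInstance : Nonempty {t : G // t ∈ (Q : Subgroup G) ∧ t ≠ 1})
    haveI : Nontrivial {t : G // t ∈ (Q : Subgroup G) ∧ t ≠ 1} :=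
      Finite.one_lt_card_iff_nontrivial.mp (by rw [hcardQ]; exact h.prime.one_lt)
    obtain ⟨⟨u, hu⟩, hne⟩ := exists_ne (⟨t, ht⟩ : {t : G // t ∈ (Q : Subgroup G) ∧ t ≠ 1})
    obtain ⟨z, hz, hz1⟩ := hne1 (Ps i)
    refine hno (t * u) ⟨mul_mem ht.1 hu.1, fun e => hne (Subtype.ext ?_), z, hz, hz1,
      hexfix Q (Ps i) (hPs i) t ht.1 u hu.1 (hnfix i t ht.1 ht.2 (hno t)) (hnfix i u hu.1 hu.2 (hno u)) z hz⟩
    show u = t
    rw [eq_inv_of_mul_eq_one_right e, inv_eq_of_mul_eq_one_right (h.exp_two Q t ht.1)]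
  choose T hT using hexists
  have hTbij : Function.Bijective (fun i => (⟨T i, (hT i).1, (hT i).2.1⟩ : {t : G // t ∈ (Q : Subgroup G) ∧ t ≠ 1})) := by
    refine (Nat.bijective_iff_injective_and_card _).mpr ⟨fun i j e => ?_, by rw [hcardQ, Nat.card_fin]⟩
    have e' : T i = T j := congrArg Subtype.val e
    exact huniq i j (T i) (hT i) (e' ▸ hT j)
  have honly : ∀ i t, Fx i t → t = T i := by
    intro i t ht
    obtain ⟨j, hj⟩ := hTbij.2 ⟨t, ht.1, ht.2.1⟩
    have hj' : T j = t := congrArg Subtype.val hj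
    rw [← hj', huniq j i t (hj' ▸ hT j) ht]
  -- there are exactly three involutions in `Q`
  have hQ4 : Nat.card (Q : Subgroup G) ≤ 4 := by
    let i₀ : Fin p := ⟨0, h.prime.pos⟩
    obtain ⟨⟨t, htQ, ht1⟩, htne⟩ : ∃ x : {t : G // t ∈ (Q : Subgroup G) ∧ t ≠ 1}, x.1 ≠ T i₀ := by
      by_contra! e
      have : Nat.card {t : G // t ∈ (Q : Subgroup G) ∧ t ≠ 1} ≤ 1 :=
        (Nat.card_le_card_of_injective (fun _ => ()) fun a b _ => Subtype.ext ((e a).trans (e b).symm)).trans (by simp)
      rw [hcardQ] at this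
      have := h.prime.two_le; omega
    have hcover : ∀ u ∈ (Q : Subgroup G), u = 1 ∨ u = T i₀ ∨ u = t ∨ u = t * T i₀ := by
      intro u hu
      by_cases hu1 : u = 1
      · exact Or.inl hu1
      by_cases huS : u = T i₀
      · exact Or.inr (Or.inl huS)
      by_cases hut : u = t
      · exact Or.inr (Or.inr (Or.inl hut))
      right; right; right
      have htf := hnfix i₀ t htQ ht1 (fun hF => htne (honly i₀ t hF))
      have huf := hnfix i₀ u hu hu1 (fun hF => huS (honly i₀ u hF))
      obtain ⟨z, hz, hz1⟩ := hne1 (Ps i₀)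
      have htu1 : t * u ≠ 1 := fun e => hut (by
        rw [eq_inv_of_mul_eq_one_right e, inv_eq_of_mul_eq_one_right (h.exp_two Q t htQ)])
      have hF : Fx i₀ (t * u) := ⟨mul_mem htQ hu, htu1, z, hz, hz1,
        hexfix Q (Ps i₀) (hPs i₀) t htQ u hu htf huf z hz⟩
      rw [← honly i₀ _ hF, ← mul_assoc, h.exp_two Q t htQ, one_mul]
    let f : ↥(Q : Subgroup G) → Fin 4 := fun u =>
      if (u : G) = 1 then 0 else if (u : G) = T i₀ then 1 else if (u : G) = t then 2 else 3
    have hf : Function.Injective f := by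
      intro a b e
      apply Subtype.ext
      have hT1' : T i₀ ≠ 1 := (hT i₀).2.1
      have htT : t ≠ T i₀ := htne
      have key : ∀ u : ↥(Q : Subgroup G), (f u = 0 → (u : G) = 1) ∧ (f u = 1 → (u : G) = T i₀) ∧
          (f u = 2 → (u : G) = t) ∧ (f u = 3 → (u : G) = t * T i₀) := by
        intro u
        simp only [f]
        split_ifs with e1 e2 e3
        · exact ⟨fun _ => e1, fun h => absurd h (by decide), fun h => absurd h (by decide), fun h => absurd h (by decide)⟩
        · exact ⟨fun h => absurd h (by decide), fun _ => e2, fun h => absurd h (by decide), fun h => absurd h (by decide)⟩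
        · exact ⟨fun h => absurd h (by decide), fun h => absurd h (by decide), fun _ => e3, fun h => absurd h (by decide)⟩
        · exact ⟨fun h => absurd h (by decide), fun h => absurd h (by decide), fun h => absurd h (by decide),
            fun _ => (((hcover _ u.2).resolve_left e1).resolve_left e2).resolve_left e3⟩
      obtain ⟨a0, a1, a2, a3⟩ := key a
      obtain ⟨b0, b1, b2, b3⟩ := key b
      rw [← e] at b0 b1 b2 b3
      generalize f a = w at a0 a1 a2 a3 b0 b1 b2 b3
      fin_cases w
      · exact (a0 rfl).trans (b0 rfl).symm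
      · exact (a1 rfl).trans (b1 rfl).symm
      · exact (a2 rfl).trans (b2 rfl).symm
      · exact (a3 rfl).trans (b3 rfl).symm
    simpa using Nat.card_le_card_of_injective f hf
  have hp3 : p = 3 := by
    rw [h.card_two Q] at hQ4
    have := h.prime.two_le
    have := h.ne_two
    omega
  -- the involution of `Ps i` centralizes it
  have hcentT : ∀ i, ∀ z ∈ (Ps i : Subgroup G), T i * z = z * T i := by
    intro i z hz
    obtain ⟨⟨t, htQ, ht1⟩, htne⟩ : ∃ x : {t : G // t ∈ (Q : Subgroup G) ∧ t ≠ 1}, x.1 ≠ T i := by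
      by_contra! e
      have : Nat.card {t : G // t ∈ (Q : Subgroup G) ∧ t ≠ 1} ≤ 1 :=
        (Nat.card_le_card_of_injective (fun _ => ()) fun a b _ => Subtype.ext ((e a).trans (e b).symm)).trans (by simp)
      rw [hcardQ] at this
      have := h.prime.two_le; omega
    obtain ⟨hTQ, hT1, -⟩ := hT i
    have htS : t * T i ≠ 1 := fun e => htne
      ((eq_inv_of_mul_eq_one_left e).trans (inv_eq_of_mul_eq_one_right (h.exp_two Q _ hTQ)))
    have hne2 : t * T i ≠ T i := fun e => ht1 (mul_eq_right.mp e)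
    have := hexfix Q (Ps i) (hPs i) t htQ (t * T i) (mul_mem htQ hTQ)
      (hnfix i t htQ ht1 (fun hF => htne (honly i t hF)))
      (hnfix i _ (mul_mem htQ hTQ) htS (fun hF => hne2 (honly i _ hF))) z hz
    rwa [← mul_assoc, h.exp_two Q t htQ, one_mul] at this
  -- every involution centralizes a Sylow subgroup
  have hcent : ∀ c : G, c * c = 1 → c ≠ 1 → ∃ R : Sylow p G, (∀ z ∈ (R : Subgroup G), c * z = z * c) ∧
      Subgroup.centralizer ({c} : Set G) ≤ Subgroup.normalizer ((R : Subgroup G) : Set G) := by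
    intro c hc hc1
    let i₀ : Fin p := ⟨0, h.prime.pos⟩
    obtain ⟨hTQ, hT1, z₀, hz₀, hz₀1, e₀⟩ := hT i₀
    obtain ⟨a, ha⟩ := h.conj_involution (h.exp_two Q _ hTQ) hT1 hc hc1
    have hle := hC Q (Ps i₀) (hPs i₀) _ hTQ hT1 z₀ hz₀ hz₀1 e₀.symm
    refine ⟨a • Ps i₀, fun z hz => ?_, fun x hx => ?_⟩
    · rw [Sylow.coe_subgroup_smul, Subgroup.mem_pointwise_smul_iff_inv_smul_mem, ← map_inv,
        MulAut.smul_def, MulAut.conj_apply, inv_inv] at hz
      have := hcentT i₀ _ hz
      rw [← ha]
      calc a * T i₀ * a⁻¹ * z = a * (T i₀ * (a⁻¹ * z * a)) * a⁻¹ := by group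
        _ = a * ((a⁻¹ * z * a) * T i₀) * a⁻¹ := by rw [this]
        _ = z * (a * T i₀ * a⁻¹) := by group
    · have h1 : a⁻¹ * x * a ∈ Subgroup.centralizer ({T i₀} : Set G) := by
        rw [mem_centralizer_iff'] at hx ⊢
        rw [← ha] at hx
        calc a⁻¹ * x * a * T i₀ = a⁻¹ * (x * (a * T i₀ * a⁻¹)) * a := by group
          _ = a⁻¹ * ((a * T i₀ * a⁻¹) * x) * a := by rw [hx]
          _ = T i₀ * (a⁻¹ * x * a) := by group
      rw [← smul_iff, smul_smul, show x * a = a * (a⁻¹ * x * a) by group, mul_smul,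
        smul_iff.mpr (hle h1)]
  -- the commuting graph of involutions is a friendship graph
  let V := {s : G // s * s = 1 ∧ s ≠ 1}
  let R : V → V → Prop := fun s t => s.1 ≠ t.1 ∧ s.1 * t.1 = t.1 * s.1
  have hpair : ∀ a b : G, a * a = 1 → b * b = 1 → a * b = b * a →
      ∃ S : Sylow 2 G, a ∈ (S : Subgroup G) ∧ b ∈ (S : Subgroup G) := by
    intro a b ha hb hab
    set E := Subgroup.closure ({a, b} : Set G) with hE
    haveI hcomm := Subgroup.isMulCommutative_closure (k := ({a, b} : Set G)) (by
      rintro x (rfl | rfl) y (rfl | rfl) <;> first | rfl | exact hab | exact hab.symm)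
    have hexp : ∀ x ∈ E, x * x = 1 := by
      intro x hx
      induction hx using Subgroup.closure_induction with
      | mem x hx => rcases hx with rfl | rfl <;> assumption
      | one => exact one_mul 1
      | mul x y hx hy ihx ihy =>
        have hxy : x * y = y * x := congrArg Subtype.val (isMulCommutative_iff.mp hcomm ⟨x, hx⟩ ⟨y, hy⟩)
        rw [mul_assoc, ← mul_assoc y, ← hxy, mul_assoc x y y, ihy, mul_one, ihx]
      | inv x hx ihx => rw [← mul_inv_rev, ihx, inv_one]
    obtain ⟨S, hS⟩ := IsPGroup.exists_le_sylow (G := G) (p := 2) (P := E) (fun x => ⟨1, Subtype.ext (by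
      show (x : G) ^ 2 ^ 1 = 1
      rw [pow_one, pow_two]; exact hexp _ x.2)⟩)
    exact ⟨S, hS (Subgroup.subset_closure (Or.inl rfl)), hS (Subgroup.subset_closure (Or.inr rfl))⟩
  have hthree : ∀ a b c : G, a * a = 1 → b * b = 1 → c * c = 1 → a ≠ 1 → b ≠ 1 → c ≠ 1 → a ≠ b → a ≠ c →
      b ≠ c → a * b = b * a → a * c = c * a → b * c = c * b → c = a * b := by
    intro a b c ha hb hc ha1 hb1 hc1 hab hac hbc cab cac cbc
    haveI hcomm := Subgroup.isMulCommutative_closure (k := ({a, b, c} : Set G)) (by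
      rintro x (rfl | rfl | rfl) y (rfl | rfl | rfl) <;>
        first | rfl | exact cab | exact cab.symm | exact cac | exact cac.symm | exact cbc | exact cbc.symm)
    set E := Subgroup.closure ({a, b, c} : Set G) with hE
    have hexp : ∀ x ∈ E, x * x = 1 := by
      intro x hx
      induction hx using Subgroup.closure_induction with
      | mem x hx => rcases hx with rfl | rfl | rfl <;> assumption
      | one => exact one_mul 1
      | mul x y hx hy ihx ihy =>
        have hxy : x * y = y * x := congrArg Subtype.val (isMulCommutative_iff.mp hcomm ⟨x, hx⟩ ⟨y, hy⟩)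
        rw [mul_assoc, ← mul_assoc y, ← hxy, mul_assoc x y y, ihy, mul_one, ihx]
      | inv x hx ihx => rw [← mul_inv_rev, ihx, inv_one]
    obtain ⟨S, hS⟩ := IsPGroup.exists_le_sylow (G := G) (p := 2) (P := E) (fun x => ⟨1, Subtype.ext (by
      show (x : G) ^ 2 ^ 1 = 1
      rw [pow_one, pow_two]; exact hexp _ x.2)⟩)
    have haS := hS (Subgroup.subset_closure (show a ∈ ({a, b, c} : Set G) from Or.inl rfl))
    have hbS := hS (Subgroup.subset_closure (show b ∈ ({a, b, c} : Set G) from Or.inr (Or.inl rfl)))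
    have hcS := hS (Subgroup.subset_closure (show c ∈ ({a, b, c} : Set G) from Or.inr (Or.inr rfl)))
    by_contra hne
    have hab1 : a * b ≠ 1 := fun e => hab (by rw [eq_inv_of_mul_eq_one_left e, inv_eq_of_mul_eq_one_right hb])
    have haba : a * b ≠ a := fun e => hb1 (mul_eq_left.mp e)
    have habb : a * b ≠ b := fun e => ha1 (mul_eq_right.mp e)
    have h5 : Nat.card (Fin 5) ≤ Nat.card (S : Subgroup G) := by
      refine Nat.card_le_card_of_injective
        (![⟨1, one_mem _⟩, ⟨a, haS⟩, ⟨b, hbS⟩, ⟨c, hcS⟩, ⟨a * b, mul_mem haS hbS⟩]) ?_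
      intro i j e
      have e' := congrArg Subtype.val e
      fin_cases i <;> fin_cases j <;> simp at e' ⊢ <;>
        first
          | exact absurd e' hne | exact absurd e'.symm hne
          | exact absurd e' ha1 | exact absurd e'.symm ha1
          | exact absurd e' hb1 | exact absurd e'.symm hb1
          | exact absurd e' hc1 | exact absurd e'.symm hc1
          | exact absurd e' hab | exact absurd e'.symm hab
          | exact absurd e' hac | exact absurd e'.symm hac
          | exact absurd e' hbc | exact absurd e'.symm hbc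
          | exact absurd e' hab1 | exact absurd e'.symm hab1
          | exact absurd e' haba | exact absurd e'.symm haba
          | exact absurd e' habb | exact absurd e'.symm habb
    rw [Nat.card_fin, h.card_two S, hp3] at h5
    omega
  have hcommon : ∀ s t : V, s ≠ t → Nat.card {w : V // R s w ∧ R t w} = 1 := by
    rintro ⟨s, hs, hs1⟩ ⟨t, ht, ht1⟩ hne
    have hst : s ≠ t := fun e => hne (Subtype.ext e)
    by_cases hcm : s * t = t * s
    · rw [Nat.card_eq_one_iff_unique]
      have hw : s * t * (s * t) = 1 := by rw [mul_assoc, ← mul_assoc t s, ← hcm, mul_assoc s t t, ht, mul_one, hs]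
      have hw1 : s * t ≠ 1 := fun e => hst (by rw [eq_inv_of_mul_eq_one_left e, inv_eq_of_mul_eq_one_right ht])
      refine ⟨⟨?_⟩, ⟨⟨⟨s * t, hw, hw1⟩, ⟨fun e => ht1 (mul_eq_left.mp e.symm), by
          show s * (s * t) = s * t * s
          rw [mul_assoc s t s, ← hcm]⟩,
        ⟨fun e => hs1 (mul_eq_right.mp e.symm), by
          show t * (s * t) = s * t * t
          rw [← mul_assoc, ← hcm]⟩⟩⟩⟩
      rintro ⟨⟨a, ha, ha1⟩, ⟨x1, x2⟩, ⟨x3, x4⟩⟩ ⟨⟨b, hb, hb1⟩, ⟨y1, y2⟩, ⟨y3, y4⟩⟩
      apply Subtype.ext; apply Subtype.ext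
      show a = b
      rw [hthree s t a hs ht ha hs1 ht1 ha1 hst x1 x3 hcm x2 x4,
        hthree s t b hs ht hb hs1 ht1 hb1 hst y1 y3 hcm y2 y4]
    · -- non-commuting involutions
      set x := s * t with hx
      have hsi : s⁻¹ = s := inv_eq_of_mul_eq_one_right hs
      have hti : t⁻¹ = t := inv_eq_of_mul_eq_one_right ht
      have htx : t * x * t⁻¹ = x⁻¹ := by
        rw [hx, mul_inv_rev, hsi, hti]
        simp [mul_assoc, ht]
      have hx1 : x ≠ 1 := fun e => hst (by rw [eq_inv_of_mul_eq_one_left e, hti])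
      set L := Subgroup.normalizer (Subgroup.zpowers x : Set G) with hL
      have hLtop := h.normalizer_zpowers_ne_top hx1
      have hcyc : ∀ y ∈ Subgroup.zpowers x, t * y * t⁻¹ = y⁻¹ := by
        rintro _ ⟨i, rfl⟩
        show t * x ^ i * t⁻¹ = (x ^ i)⁻¹
        rw [← conj_zpow, htx, inv_zpow]
      have htL : t ∈ L := by
        rw [hL, Subgroup.mem_normalizer_iff]
        intro y
        constructor
        · intro hy; rw [hcyc y hy]; exact inv_mem hy
        · intro hy
          have h2 := hcyc _ hy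
          have : y = (t * y * t⁻¹)⁻¹ := by
            rw [← h2]
            calc y = (t * t) * y * (t * t)⁻¹ := by rw [ht]; group
              _ = t * (t * y * t⁻¹) * t⁻¹ := by group
          rw [this]; exact inv_mem hy
      have h2L : 2 ∣ Nat.card L := by
        have := L.orderOf_dvd_natCard htL
        rwa [orderOf_eq_prime (by rw [pow_two, ht]) ht1] at this
      have hpr : ∀ r : ℕ, r.Prime → r ∣ orderOf x → r = p ∨ r = 2 := fun r hr hd => by
        refine h.proper L hLtop h2L r hr (hd.trans ?_)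
        exact L.orderOf_dvd_natCard (Subgroup.le_normalizer (Subgroup.mem_zpowers x))
      -- the centralizer of `x` has even order
      have heven : 2 ∣ Nat.card (Subgroup.centralizer ({x} : Set G)) := by
        by_cases h2x : 2 ∣ orderOf x
        · exact h2x.trans ((Subgroup.centralizer ({x} : Set G)).orderOf_dvd_natCard (mem_centralizer_iff'.mpr rfl))
        · have hxp : ∃ k, x ^ p ^ k = 1 := by
            obtain ⟨k, hk⟩ : ∃ k, orderOf x = p ^ k := by
              refine ⟨_, Nat.eq_prime_pow_of_unique_prime_dvd (orderOf_pos x).ne' fun {d} hd hdd => ?_⟩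
              exact (hpr d hd hdd).resolve_right fun e => h2x (e ▸ hdd)
            exact ⟨k, hk ▸ pow_orderOf_eq_one x⟩
          obtain ⟨k, hk⟩ := hxp
          obtain ⟨P', hP'⟩ := exists_sylow_mem hk
          obtain ⟨a, ha⟩ := MulAction.exists_smul_eq G (Ps ⟨0, h.prime.pos⟩) P'
          set t₀ := T ⟨0, h.prime.pos⟩
          have hmem : a * t₀ * a⁻¹ ∈ Subgroup.centralizer ({x} : Set G) := by
            rw [mem_centralizer_iff']
            rw [← ha, Sylow.coe_subgroup_smul, Subgroup.mem_pointwise_smul_iff_inv_smul_mem, ← map_inv,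
              MulAut.smul_def, MulAut.conj_apply, inv_inv] at hP'
            have := hcentT _ _ hP'
            calc a * t₀ * a⁻¹ * x = a * (t₀ * (a⁻¹ * x * a)) * a⁻¹ := by group
              _ = a * ((a⁻¹ * x * a) * t₀) * a⁻¹ := by rw [this]
              _ = x * (a * t₀ * a⁻¹) := by group
          have h1 := (Subgroup.centralizer ({x} : Set G)).orderOf_dvd_natCard hmem
          rwa [← MulAut.conj_apply, MulEquiv.orderOf_eq,
            orderOf_eq_prime (by rw [pow_two, h.exp_two Q _ (hT _).1]) (hT _).2.1] at h1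
      -- existence: an involution of `C(x)` fixed by `t`
      obtain ⟨c, hc, hc1, hcx, hct⟩ : ∃ c : G, c * c = 1 ∧ c ≠ 1 ∧ c * x = x * c ∧ t * c = c * t := by
        set C := Subgroup.centralizer ({x} : Set G)
        let Y := {c : C // c ^ 2 = 1}
        have htC : ∀ c : G, c ∈ C → t * c * t⁻¹ ∈ C := fun c hc => by
          rw [mem_centralizer_iff'] at hc ⊢
          have e : t⁻¹ * x * t = x⁻¹ := by rw [hti]; rw [hti] at htx; exact htx
          have hcx : Commute c x⁻¹ := (show Commute c x from hc).inv_right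
          calc t * c * t⁻¹ * x = t * (c * (t⁻¹ * x * t)) * t⁻¹ := by group
            _ = t * ((t⁻¹ * x * t) * c) * t⁻¹ := by rw [e, hcx.eq]
            _ = x * (t * c * t⁻¹) := by group
        let σ : Equiv.Perm Y :=
          Function.Involutive.toPerm (fun c => ⟨⟨t * c.1.1 * t⁻¹, htC _ c.1.2⟩, Subtype.ext (by
            show (t * c.1.1 * t⁻¹) ^ 2 = 1
            rw [conj_pow, show c.1.1 ^ 2 = 1 from congrArg Subtype.val c.2]; group)⟩)
            fun c => Subtype.ext (Subtype.ext (by
              show t * (t * c.1.1 * t⁻¹) * t⁻¹ = c.1.1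
              calc t * (t * c.1.1 * t⁻¹) * t⁻¹ = (t * t) * c.1.1 * (t * t)⁻¹ := by group
                _ = c.1.1 := by rw [ht]; group))
        have hfr : 2 ∣ Nat.card Y := FrobeniusCount.frobenius (G := C) heven
        haveI := Fintype.ofFinite Y
        have hσ : σ ^ (2 ^ 1) = 1 := by
          rw [pow_one, pow_two]
          refine Equiv.ext fun c => Subtype.ext (Subtype.ext ?_)
          show t * (t * c.1.1 * t⁻¹) * t⁻¹ = c.1.1
          calc t * (t * c.1.1 * t⁻¹) * t⁻¹ = (t * t) * c.1.1 * (t * t)⁻¹ := by group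
            _ = c.1.1 := by rw [ht]; group
        have hmod := Equiv.Perm.card_compl_support_modEq (σ := σ) (n := 1) hσ
        have h1 : (⟨1, one_pow 2⟩ : Y) ∈ σ.supportᶜ := by
          rw [Finset.mem_compl, Equiv.Perm.mem_support, not_not]
          exact Subtype.ext (Subtype.ext (by show t * 1 * t⁻¹ = 1; group))
        have h2 : 1 < σ.supportᶜ.card := by
          have hpos : 0 < σ.supportᶜ.card := Finset.card_pos.mpr ⟨_, h1⟩
          rw [← Nat.card_eq_fintype_card] at hmod
          have hz : σ.supportᶜ.card % 2 = 0 := by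
            rw [hmod]; exact Nat.dvd_iff_mod_eq_zero.mp hfr
          omega
        obtain ⟨c, hcmem, hcne⟩ := Finset.exists_mem_ne h2 ⟨1, one_pow 2⟩
        rw [Finset.mem_compl, Equiv.Perm.mem_support, not_not] at hcmem
        refine ⟨c.1.1, by rw [← pow_two]; exact congrArg Subtype.val c.2, fun e => hcne (Subtype.ext (Subtype.ext e)),
          mem_centralizer_iff'.mp c.1.2, ?_⟩
        have e := congrArg (fun w : Y => w.1.1) hcmem
        exact mul_inv_eq_iff_eq_mul.mp e
      have hsx : s = x * t := by rw [hx, mul_assoc, ht, mul_one]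
      have hcs : c * s = s * c := by rw [hsx, ← mul_assoc, hcx, mul_assoc, ← hct, ← mul_assoc]
      have hcne_t : t ≠ c := fun e => hcm (by
        rw [← e] at hcs
        exact hcs.symm)
      have hcne_s : s ≠ c := fun e => hcm (show s * t = t * s by rw [e]; exact hct.symm)
      rw [Nat.card_eq_one_iff_unique]
      refine ⟨⟨?_⟩, ⟨⟨⟨c, hc, hc1⟩, ⟨hcne_s, hcs.symm⟩, hcne_t, hct⟩⟩⟩
      rintro ⟨⟨a, ha, ha1⟩, ⟨x1, x2⟩, ⟨x3, x4⟩⟩ ⟨⟨b, hb, hb1⟩, ⟨y1, y2⟩, ⟨y3, y4⟩⟩
      apply Subtype.ext; apply Subtype.ext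
      show a = b
      change s * a = a * s at x2
      change t * a = a * t at x4
      change s * b = b * s at y2
      change t * b = b * t at y4
      change s ≠ a at x1
      change t ≠ a at x3
      change s ≠ b at y1
      change t ≠ b at y3
      by_contra hab
      -- an element of `3`-power order in `⟨x⟩`
      obtain ⟨x₁, ⟨k, hk⟩, hx₁1, hx₁x⟩ : ∃ x₁ : G, (∃ k, x₁ ^ p ^ k = 1) ∧ x₁ ≠ 1 ∧ x₁ ∈ Subgroup.zpowers x := by
        by_cases hpd : p ∣ orderOf x
        · obtain ⟨m, hm⟩ := hpd
          have hm0 : m ≠ 0 := fun e => by rw [e, mul_zero] at hm; exact (orderOf_pos x).ne' hm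
          refine ⟨x ^ m, ⟨1, ?_⟩, ?_, Subgroup.npow_mem_zpowers x m⟩
          · rw [pow_one, ← pow_mul, mul_comm, ← hm, pow_orderOf_eq_one]
          · intro e
            have := Nat.le_of_dvd (Nat.pos_of_ne_zero hm0) (orderOf_dvd_of_pow_eq_one e)
            rw [hm] at this
            have := h.prime.two_le
            nlinarith [Nat.pos_of_ne_zero hm0]
        · exfalso
          have hx2 : ∃ k, x ^ 2 ^ k = 1 := by
            obtain ⟨k, hk⟩ : ∃ k, orderOf x = 2 ^ k := by
              refine ⟨_, Nat.eq_prime_pow_of_unique_prime_dvd (orderOf_pos x).ne' fun {d} hd hdd => ?_⟩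
              exact (hpr d hd hdd).resolve_left fun e => hpd (e ▸ hdd)
            exact ⟨k, hk ▸ pow_orderOf_eq_one x⟩
          obtain ⟨k, hk⟩ := hx2
          obtain ⟨S, hS⟩ := exists_sylow_mem (p := 2) hk
          have e2 := h.exp_two S x hS
          have e3 : x⁻¹ = x := inv_eq_of_mul_eq_one_right e2
          rw [hx, mul_inv_rev, hsi, hti] at e3
          exact hcm e3.symm
      have ht₁ := hcyc x₁ hx₁x
      have ht₁ne : t * x₁ ≠ x₁ * t := fun e => by
        rw [e, mul_inv_cancel_right] at ht₁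
        have h2 : x₁ * x₁ = 1 := by nth_rw 1 [ht₁]; exact inv_mul_cancel x₁
        exact hx₁1 (eq_one_of_pow h.coprime (i := k) (j := 1) hk (by rw [pow_one, pow_two, h2]))
      set M := Subgroup.normalizer (Subgroup.zpowers x₁ : Set G)
      have hMtop := h.normalizer_zpowers_ne_top hx₁1
      have htM : t ∈ M := by
        rw [Subgroup.mem_normalizer_iff]
        have key : ∀ y ∈ Subgroup.zpowers x₁, t * y * t⁻¹ ∈ Subgroup.zpowers x₁ := by
          rintro _ ⟨i, rfl⟩
          show t * x₁ ^ i * t⁻¹ ∈ _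
          rw [← conj_zpow, ht₁, inv_zpow]
          exact inv_mem (zpow_mem (Subgroup.mem_zpowers x₁) i)
        intro y
        refine ⟨key y, fun hy => ?_⟩
        have := key _ hy
        rwa [show t * (t * y * t⁻¹) * t⁻¹ = (t * t) * y * (t * t)⁻¹ by group, ht, one_mul, inv_one, mul_one] at this
      have hdata : ∀ d : G, d * d = 1 → d ≠ 1 → s * d = d * s → t * d = d * t →
          d * x₁ = x₁ * d ∧ ∃ R : Sylow p G, x₁ ∈ (R : Subgroup G) ∧
            (∀ z ∈ (R : Subgroup G), d * z = z * d) ∧ (R : Subgroup G) ≤ M := by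
        intro d hd hd1 hds hdt
        have hdx : Commute d x := (show Commute d s from hds.symm).mul_right hdt.symm
        have hdx₁ : d * x₁ = x₁ * d := by
          obtain ⟨i, rfl⟩ := hx₁x
          exact (hdx.zpow_right i).eq
        obtain ⟨R', hR1, hR2⟩ := hcent d hd hd1
        refine ⟨hdx₁, R', ?_, hR1, ?_⟩
        · exact h.p_mem_of_normalizer (hR2 (mem_centralizer_iff'.mpr hdx₁.symm)) hk
        · have hx₁R := h.p_mem_of_normalizer (hR2 (mem_centralizer_iff'.mpr hdx₁.symm)) hk
          exact fun z hz => centralizer_le_normalizer_zpowers x₁ (mem_centralizer_iff'.mpr (h.comm_p R' z hz x₁ hx₁R))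
      obtain ⟨hax, Ra, hxa, hcRa, hRaM⟩ := hdata a ha ha1 x2 x4
      obtain ⟨hbx, Rb, hxb, hcRb, hRbM⟩ := hdata b hb hb1 y2 y4
      obtain ⟨S, haS, htS⟩ := hpair a t ha ht x4.symm
      have hSM : (S : Subgroup G) ≤ M := by
        have hS4 : Nat.card (S : Subgroup G) = 4 := by rw [h.card_two S, hp3]
        intro u hu
        have hcov : u = 1 ∨ u = a ∨ u = t ∨ u = a * t := by
          by_cases u1 : u = 1
          · exact Or.inl u1
          by_cases u2 : u = a
          · exact Or.inr (Or.inl u2)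
          by_cases u3 : u = t
          · exact Or.inr (Or.inr (Or.inl u3))
          exact Or.inr (Or.inr (Or.inr (hthree a t u ha ht (h.exp_two S u hu) ha1 ht1 u1 (Ne.symm x3) (Ne.symm u2) (Ne.symm u3)
            x4.symm (h.comm_two S a haS u hu) (h.comm_two S t htS u hu))))
        have haM : a ∈ M := centralizer_le_normalizer_zpowers x₁ (mem_centralizer_iff'.mpr hax)
        rcases hcov with rfl | rfl | rfl | rfl
        · exact one_mem _
        · exact haM
        · exact htM
        · exact mul_mem haM htM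
      rcases h.overgroup S hMtop hSM with hN | ⟨P', hP'⟩
      · apply ht₁ne
        obtain ⟨j, hj⟩ := exists_pow_eq_one Ra.isPGroup' hxa
        exact (h.fix_all S hj (hN (hRaM hxa)) haS ha1 hax.symm t htS).symm
      · have key : ∀ R : Sylow p G, (R : Subgroup G) ≤ M → R = P' := fun R hR => by
          refine Sylow.ext (Subgroup.eq_of_le_of_card_ge (fun g hg => ?_) (by rw [R.card_eq_multiplicity, P'.card_eq_multiplicity]))
          obtain ⟨j, hj⟩ := exists_pow_eq_one R.isPGroup' hg
          exact h.p_mem_of_normalizer (hP' (hR hg)) hj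
        have hRR : Ra = Rb := (key Ra hRaM).trans (key Rb hRbM).symm
        subst hRR
        -- two involutions centralizing `Ra`
        by_cases hab' : a * b = b * a
        · have := hthree a b t ha hb ht ha1 hb1 ht1 hab (Ne.symm x3) (Ne.symm y3) hab' x4.symm y4.symm
          apply hcm
          show s * t = t * s
          rw [this]
          exact ((show Commute s a from x2).mul_right (show Commute s b from y2)).eq
        · -- their product is in the centralizer of `a`
          apply hab'
          obtain ⟨S', hS'N⟩ : ∃ S' : Sylow 2 G, b ∈ (S' : Subgroup G) := h.exists_sylow_two hb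
          have hbN : b ∈ Subgroup.normalizer ((Ra : Subgroup G) : Set G) := by
            rw [Subgroup.mem_normalizer_iff]
            intro y
            constructor
            · intro hy; rw [hcRb y hy, mul_inv_cancel_right]; exact hy
            · intro hy
              have := hcRb _ hy
              have e2 : y = b * y * b⁻¹ := by
                calc y = b⁻¹ * ((b * y * b⁻¹) * b) := by group
                  _ = b⁻¹ * (b * (b * y * b⁻¹)) := by rw [this]
                  _ = b * y * b⁻¹ := by group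
              rw [e2]; exact hy
          have hSP : (S : Subgroup G) ≤ Subgroup.normalizer ((Ra : Subgroup G) : Set G) := by
            rw [key Ra hRaM]; exact hSM.trans hP'
          set N := Subgroup.normalizer ((Ra : Subgroup G) : Set G) with hN
          set C := Subgroup.centralizer ((Ra : Subgroup G) : Set G) with hC
          have haC : a ∈ C := Subgroup.mem_centralizer_iff.mpr fun y hy => (hcRa y hy).symm
          have hbC : b ∈ C := Subgroup.mem_centralizer_iff.mpr fun y hy => (hcRb y hy).symm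
          -- `b` is conjugate to an element of `S` inside the normalizer
          obtain ⟨S₂, hS₂⟩ := exists_sylow_mem (G := N) (p := 2) (g := ⟨b, hbN⟩) (k := 1)
            (Subtype.ext (by rw [pow_one, pow_two]; exact hb))
          obtain ⟨⟨n, hnN⟩, hn⟩ := MulAction.exists_smul_eq N (S.subtype hSP) S₂
          rw [← hn, Sylow.coe_subgroup_smul, Subgroup.mem_pointwise_smul_iff_inv_smul_mem, ← map_inv,
            MulAut.smul_def, MulAut.conj_apply, inv_inv, Sylow.coe_subtype] at hS₂
          have huS : n⁻¹ * b * n ∈ (S : Subgroup G) := hS₂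
          have hnb : ∀ z ∈ (Ra : Subgroup G), (n⁻¹ * b * n) * z = z * (n⁻¹ * b * n) := by
            intro z hz
            have hz' : n * z * n⁻¹ ∈ (Ra : Subgroup G) := conj_mem_normalizer hz hnN
            calc n⁻¹ * b * n * z = n⁻¹ * (b * (n * z * n⁻¹)) * n := by group
              _ = n⁻¹ * ((n * z * n⁻¹) * b) * n := by rw [hcRb _ hz']
              _ = z * (n⁻¹ * b * n) := by group
          have hu_a : n⁻¹ * b * n = a := by
            set u := n⁻¹ * b * n
            have hu1 : u ≠ 1 := fun e => hb1 (by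
              calc b = n * u * n⁻¹ := by simp only [u]; group
                _ = 1 := by rw [e]; group)
            by_contra hua
            by_cases hut : u = t
            · exact ht₁ne (hut ▸ hnb x₁ hxa)
            · have := hthree a t u ha ht (h.exp_two S u huS) ha1 ht1 hu1 (Ne.symm x3) (Ne.symm hua) (Ne.symm hut)
                x4.symm (h.comm_two S a haS u huS) (h.comm_two S t htS u huS)
              apply ht₁ne
              have e1 := hnb x₁ hxa
              rw [this] at e1
              calc t * x₁ = a⁻¹ * (a * t * x₁) := by group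
                _ = a⁻¹ * (x₁ * (a * t)) := by rw [e1]
                _ = x₁ * t := by rw [← mul_assoc, ← mul_assoc, mul_assoc a⁻¹ x₁, ← hax, ← mul_assoc a⁻¹, inv_mul_cancel, one_mul]
          -- `a` is central in the normalizer
          have hacent : ∀ m ∈ N, m * a = a * m := by
            have hN2 : 2 ∣ Nat.card N := h.two_dvd_of_le S hSP
            have hRN : (Ra : Subgroup G) ≤ N := Subgroup.le_normalizer
            haveI : ((Ra : Subgroup G).subgroupOf N).Normal := Subgroup.normal_in_normalizer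
            have hRne : (Ra : Subgroup G) ≠ ⊥ := fun e => hx₁1 (by rwa [e, Subgroup.mem_bot] at hxa)
            have hNtop : N ≠ ⊤ := h.normalizer_ne_top hRne (h.not_top_of_isPGroup h.prime Ra.isPGroup')
            have htop : (Ra : Subgroup G).subgroupOf N ⊔ (S : Subgroup G).subgroupOf N = ⊤ := by
              refine Subgroup.eq_top_of_le_card _ (Nat.le_of_dvd Nat.card_pos ?_)
              rw [Nat.dvd_iff_prime_pow_dvd_dvd]
              intro r m hr hm
              rcases Nat.eq_zero_or_pos m with rfl | hm0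
              · simp
              haveI := Fact.mk hr
              have hsG : r ^ m ∣ Nat.card G := hm.trans (Subgroup.card_subgroup_dvd_card N)
              rcases h.proper N hNtop hN2 r hr ((dvd_pow_self r hm0.ne').trans hm) with rfl | rfl
              · refine (Ra.pow_dvd_card_of_pow_dvd_card hsG).trans ?_
                rw [← Nat.card_congr (Subgroup.subgroupOfEquivOfLe hRN).toEquiv]
                exact Subgroup.card_dvd_of_le le_sup_left
              · refine (S.pow_dvd_card_of_pow_dvd_card hsG).trans ?_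
                rw [← Nat.card_congr (Subgroup.subgroupOfEquivOfLe hSP).toEquiv]
                exact Subgroup.card_dvd_of_le le_sup_right
            intro m hm
            obtain ⟨v, hv, w, hw, e⟩ := Subgroup.mem_sup_of_normal_left.mp (htop ▸ Subgroup.mem_top (⟨m, hm⟩ : N))
            rw [show m = (v : G) * w from (congrArg Subtype.val e).symm]
            exact ((show Commute (v : G) a from (hcRa _ hv).symm).mul_left
              (show Commute (w : G) a from h.comm_two S _ hw _ haS)).eq
          rw [show b = n * (n⁻¹ * b * n) * n⁻¹ by group, hu_a, hacent n hnN, mul_inv_cancel_right]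
  -- the valency
  haveI : Nonempty V := ⟨⟨T ⟨0, h.prime.pos⟩, h.exp_two Q _ (hT _).1, (hT _).2.1⟩⟩
  let i₀ : Fin p := ⟨0, h.prime.pos⟩
  have hdeg : ∀ v : V, Nat.card {w // R v w} = Nat.card {w // R (⟨T i₀, h.exp_two Q _ (hT _).1, (hT _).2.1⟩ : V) w} := by
    intro v
    obtain ⟨a, ha⟩ := h.conj_involution v.2.1 v.2.2 (h.exp_two Q _ (hT i₀).1) (hT i₀).2.1
    let e : V ≃ V :=
      { toFun := fun w => ⟨a * w.1 * a⁻¹, by rw [← MulAut.conj_apply, ← map_mul, w.2.1, map_one],
          fun e => w.2.2 (conj_eq_one_iff.mp e)⟩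
        invFun := fun w => ⟨a⁻¹ * w.1 * a, by
          calc a⁻¹ * w.1 * a * (a⁻¹ * w.1 * a) = a⁻¹ * (w.1 * w.1) * a := by group
            _ = 1 := by rw [w.2.1]; group, fun e => w.2.2 (by
          calc w.1 = a * (a⁻¹ * w.1 * a) * a⁻¹ := by group
            _ = 1 := by rw [e]; group)⟩
        left_inv := fun w => Subtype.ext (by show a⁻¹ * (a * w.1 * a⁻¹) * a = w.1; group)
        right_inv := fun w => Subtype.ext (by show a * (a⁻¹ * w.1 * a) * a⁻¹ = w.1; group) }
    refine Nat.card_congr (Equiv.subtypeEquiv e fun w => ?_)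
    show (v.1 ≠ w.1 ∧ v.1 * w.1 = w.1 * v.1) ↔
      (T i₀ ≠ a * w.1 * a⁻¹ ∧ T i₀ * (a * w.1 * a⁻¹) = (a * w.1 * a⁻¹) * T i₀)
    rw [← ha]
    constructor
    · rintro ⟨h1, h2⟩
      refine ⟨fun e => h1 (mul_left_cancel (mul_right_cancel e)), ?_⟩
      rw [← MulAut.conj_apply, ← MulAut.conj_apply, ← map_mul, ← map_mul, h2]
    · rintro ⟨h1, h2⟩
      refine ⟨fun e => h1 (by rw [e]), ?_⟩
      rw [← MulAut.conj_apply, ← MulAut.conj_apply, ← map_mul, ← map_mul] at h2
      exact (MulAut.conj a).injective h2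
  refine no_friendship R (fun u v h => ⟨Ne.symm h.1, h.2.symm⟩) (fun v h => h.1 rfl) _ ?_ hdeg hcommon
  -- at least three neighbours
  obtain ⟨hTQ, hT1, -⟩ := hT i₀
  obtain ⟨⟨t, htQ, ht1⟩, htne⟩ : ∃ x : {t : G // t ∈ (Q : Subgroup G) ∧ t ≠ 1}, x.1 ≠ T i₀ := by
    by_contra! e
    have : Nat.card {t : G // t ∈ (Q : Subgroup G) ∧ t ≠ 1} ≤ 1 :=
      (Nat.card_le_card_of_injective (fun _ => ()) fun a b _ => Subtype.ext ((e a).trans (e b).symm)).trans (by simp)
    rw [hcardQ] at this
    have := h.prime.two_le; omega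
  have htn := hnfix i₀ t htQ ht1 (fun hF => htne (honly i₀ t hF))
  have hinv := inverts h.ne_two (Ps i₀).isPGroup' (h.comm_p (Ps i₀)) (h.exp_two Q t htQ) (hPs i₀ htQ) htn
  obtain ⟨z, hz, hz1⟩ := hne1 (Ps i₀)
  have hzz : z * z ≠ 1 := fun e => hz1 (by
    obtain ⟨j, hj⟩ := exists_pow_eq_one (Ps i₀).isPGroup' hz
    exact eq_one_of_pow h.coprime hj (j := 1) (by rw [pow_one, pow_two, e]))
  have hmem : ∀ w ∈ (Ps i₀ : Subgroup G), w * t * (w * t) = 1 ∧ w * t ≠ 1 ∧ T i₀ ≠ w * t ∧ T i₀ * (w * t) = w * t * T i₀ := by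
    intro w hw
    have e1 : w * t * (w * t) = 1 := by
      calc w * t * (w * t) = w * (t * w * t⁻¹) * (t * t) := by group
        _ = 1 := by rw [hinv w hw, h.exp_two Q t htQ, mul_one, mul_inv_cancel]
    have hwQ : ∀ q ∈ (Q : Subgroup G), w * t = q → w = 1 := by
      intro q hq e
      have : w ∈ (Q : Subgroup G) := by
        rw [eq_mul_inv_of_mul_eq e]; exact mul_mem hq (inv_mem htQ)
      obtain ⟨j, hj⟩ := exists_pow_eq_one (Ps i₀).isPGroup' hw
      exact eq_one_of_pow h.coprime hj (j := 1) (by rw [pow_one, pow_two, h.exp_two Q w this])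
    refine ⟨e1, fun e => ?_, fun e => ?_, ?_⟩
    · rw [hwQ 1 (one_mem _) e, one_mul] at e; exact ht1 e
    · have e' := e.symm
      rw [hwQ _ hTQ e', one_mul] at e'; exact htne e'
    · exact ((show Commute (T i₀) w from hcentT i₀ w hw).mul_right
        (show Commute (T i₀) t from h.comm_two Q _ hTQ _ htQ)).eq
  let g3 : Fin 3 → {w : V // R ⟨T i₀, h.exp_two Q _ (hT _).1, (hT _).2.1⟩ w} := fun i =>
    ⟨⟨(![1, z, z * z] i) * t,
      (hmem _ (by fin_cases i <;> simp [hz, mul_mem hz hz, one_mem])).1,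
      (hmem _ (by fin_cases i <;> simp [hz, mul_mem hz hz, one_mem])).2.1⟩,
      (hmem _ (by fin_cases i <;> simp [hz, mul_mem hz hz, one_mem])).2.2.1,
      (hmem _ (by fin_cases i <;> simp [hz, mul_mem hz hz, one_mem])).2.2.2⟩
  have hg3 : Function.Injective g3 := by
    intro i j e
    have e' : (![1, z, z * z] i) = (![1, z, z * z] j) := mul_right_cancel (congrArg (fun w => w.1.1) e)
    fin_cases i <;> fin_cases j <;> simp at e' ⊢ <;>
      first
        | exact absurd e' hz1 | exact absurd e'.symm hz1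
        | exact absurd e' hzz | exact absurd e'.symm hzz
  simpa using Nat.card_le_card_of_injective g3 hg3

end Cex

end Cfsg.Agent.MixedPrime
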