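import Mathlib
import Cfsg.Agent.MixedPrime.Basic
import Cfsg.Agent.MixedPrime.Tools

/-!
# The two cases of a minimal counterexample
-/

set_option autoImplicit false
set_option linter.all false

namespace Cfsg.Agent.MixedPrime

open Cfsg Cfsg.Agent
open scoped Pointwise commutatorElement

universe u

variable {G : Type u} [Group G] [Finite G] {p : ℕ}

namespace Cex

/-- Case two: no Sylow 2-subgroup normalizes a Sylow `p`-subgroup. -/
theorem beta (h : Cex G p)
    (hno : ∀ (Q : Sylow 2 G) (P : Sylow p G), ¬ (Q : Subgroup G) ≤ Subgroup.normalizer ((P : Subgroup G) : Set G)) :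
    False := by
  classical
  haveI := Fact.mk h.prime
  haveI : Fact (Nat.Prime 2) := ⟨Nat.prime_two⟩
  have hover : ∀ (Q : Sylow 2 G) (L : Subgroup G), L ≠ ⊤ → (Q : Subgroup G) ≤ L →
      L ≤ Subgroup.normalizer ((Q : Subgroup G) : Set G) := fun Q L hL hQL =>
    (h.overgroup Q hL hQL).resolve_right fun ⟨P, hP⟩ => hno Q P (hQL.trans hP)
  -- centralizers of involutions centralize the whole Sylow subgroup
  have hCt : ∀ (Q : Sylow 2 G), ∀ t ∈ (Q : Subgroup G), t ≠ 1 → ∀ g : G, g * t = t * g →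
      ∀ u ∈ (Q : Subgroup G), g * u = u * g := by
    intro Q t ht ht1 g hg
    set C := Subgroup.centralizer ({t} : Set G)
    have hQC : (Q : Subgroup G) ≤ C := fun u hu => mem_centralizer_iff'.mpr (h.comm_two Q u hu t ht)
    have hCN := hover Q C (h.centralizer_ne_top ht1) hQC
    have hgC : g ∈ C := mem_centralizer_iff'.mpr hg
    set n := orderOf g with hn
    have hpr : ∀ r : ℕ, r.Prime → r ∣ n → r = p ∨ r = 2 := fun r hr hd =>
      h.proper C (h.centralizer_ne_top ht1) (h.two_dvd_of_le Q hQC) r hr (hd.trans (C.orderOf_dvd_natCard hgC))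
    have hsplit : n = p ^ n.factorization p * 2 ^ n.factorization 2 := by
      have hn0 : n ≠ 0 := (orderOf_pos g).ne'
      refine Nat.eq_of_factorization_eq hn0 (by simp [h.prime.ne_zero]) fun r => ?_
      rw [Nat.factorization_mul (by simp [h.prime.ne_zero]) (by simp), Finsupp.add_apply,
        Nat.Prime.factorization_pow h.prime, Nat.Prime.factorization_pow Nat.prime_two]
      by_cases hrp : r = p
      · subst hrp
        rw [Finsupp.single_eq_same, Finsupp.single_eq_of_ne h.ne_two, add_zero]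
      by_cases hr2 : r = 2
      · subst hr2
        rw [Finsupp.single_eq_same, Finsupp.single_eq_of_ne (Ne.symm h.ne_two), zero_add]
      rw [Finsupp.single_eq_of_ne hrp, Finsupp.single_eq_of_ne hr2, add_zero]
      by_cases hr : r.Prime
      · exact Nat.factorization_eq_zero_of_not_dvd fun hd => (hpr r hr hd).elim hrp hr2
      · exact Nat.factorization_eq_zero_of_not_prime n hr
    set A := p ^ n.factorization p
    set B := 2 ^ n.factorization 2
    have hgA : (g ^ B) ^ A = 1 := by rw [← pow_mul, mul_comm, ← hsplit, hn, pow_orderOf_eq_one]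
    have hgB : (g ^ A) ^ B = 1 := by rw [← pow_mul, ← hsplit, hn, pow_orderOf_eq_one]
    have h1 : ∀ u ∈ (Q : Subgroup G), g ^ B * u = u * g ^ B :=
      h.fix_all Q hgA (hCN (pow_mem hgC _)) ht ht1 ((show Commute g t from hg).pow_left B).eq
    have h2 : g ^ A ∈ (Q : Subgroup G) := h.two_mem_of_normalizer (hCN (pow_mem hgC _)) hgB
    intro u hu
    obtain ⟨i, j, hij⟩ : ∃ i j : ℤ, (A : ℤ) * i + (B : ℤ) * j = 1 := by
      have hc : Nat.Coprime A B := (h.coprime.pow_left _).pow_right _
      exact ⟨Nat.gcdA A B, Nat.gcdB A B, by rw [← Nat.gcd_eq_gcd_ab, hc.gcd_eq_one, Nat.cast_one]⟩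
    have e : g = (g ^ A) ^ i * (g ^ B) ^ j := by
      rw [← zpow_natCast, ← zpow_natCast, ← zpow_mul, ← zpow_mul, ← zpow_add, hij, zpow_one]
    rw [e]
    exact (((show Commute (g ^ A) u from h.comm_two Q _ h2 u hu).zpow_left i).mul_left
      ((show Commute (g ^ B) u from h1 u hu).zpow_left j)).eq
  have hsame : ∀ (Q : Sylow 2 G), ∀ t ∈ (Q : Subgroup G), t ≠ 1 → ∀ s : G, s * s = 1 → s * t = t * s →
      s ∈ (Q : Subgroup G) := by
    intro Q t ht ht1 s hs hst
    refine h.two_mem_of_normalizer (hover Q _ (h.centralizer_ne_top ht1)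
      (fun u hu => mem_centralizer_iff'.mpr (h.comm_two Q u hu t ht)) (mem_centralizer_iff'.mpr hst)) (k := 1) ?_
    rw [pow_one, pow_two, hs]
  -- inverted elements
  have hreal : ∀ t x : G, t * t = 1 → t ≠ 1 → t * x * t⁻¹ = x⁻¹ → x ≠ 1 → x * x ≠ 1 →
      (∃ k, x ^ p ^ k = 1) ∧ (∀ u : G, u * u = 1 → u * x = x * u → u = 1) := by
    intro t x ht ht1 htx hx1 hxx
    have hodd : ∀ u : G, u * u = 1 → u * x = x * u → u = 1 := by
      intro u hu hux
      by_contra hu1
      obtain ⟨Q', hQ'⟩ := h.exists_sylow_two hu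
      have hxQ := hCt Q' u hQ' hu1 x hux.symm
      set L := Subgroup.normalizer (Subgroup.zpowers x : Set G)
      have hQL : (Q' : Subgroup G) ≤ L := fun w hw =>
        centralizer_le_normalizer_zpowers x (mem_centralizer_iff'.mpr (hxQ w hw).symm)
      have hLN := hover Q' L (h.normalizer_zpowers_ne_top hx1) hQL
      have htL : t ∈ L := by
        rw [Subgroup.mem_normalizer_iff]
        have key : ∀ y ∈ Subgroup.zpowers x, t * y * t⁻¹ ∈ Subgroup.zpowers x := by
          rintro _ ⟨i, rfl⟩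
          show t * x ^ i * t⁻¹ ∈ _
          rw [← conj_zpow, htx, inv_zpow]
          exact inv_mem (zpow_mem (Subgroup.mem_zpowers x) i)
        intro y
        refine ⟨key y, fun hy => ?_⟩
        have := key _ hy
        rwa [show t * (t * y * t⁻¹) * t⁻¹ = (t * t) * y * (t * t)⁻¹ by group, ht, one_mul, inv_one, mul_one] at this
      have htQ := h.two_mem_of_normalizer (hLN htL) (k := 1) (by rw [pow_one, pow_two, ht])
      rw [← hxQ t htQ, mul_inv_cancel_right] at htx
      exact hxx (by nth_rw 1 [htx]; exact inv_mul_cancel x)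
    refine ⟨?_, hodd⟩
    obtain ⟨k, hk⟩ : ∃ k, orderOf x = p ^ k := by
      refine ⟨_, Nat.eq_prime_pow_of_unique_prime_dvd (orderOf_pos x).ne' fun {d} hd hdd => ?_⟩
      set L := Subgroup.normalizer (Subgroup.zpowers x : Set G)
      have htL : t ∈ L := by
        rw [Subgroup.mem_normalizer_iff]
        have key : ∀ y ∈ Subgroup.zpowers x, t * y * t⁻¹ ∈ Subgroup.zpowers x := by
          rintro _ ⟨i, rfl⟩
          show t * x ^ i * t⁻¹ ∈ _
          rw [← conj_zpow, htx, inv_zpow]
          exact inv_mem (zpow_mem (Subgroup.mem_zpowers x) i)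
        intro y
        refine ⟨key y, fun hy => ?_⟩
        have := key _ hy
        rwa [show t * (t * y * t⁻¹) * t⁻¹ = (t * t) * y * (t * t)⁻¹ by group, ht, one_mul, inv_one, mul_one] at this
      have h2L : 2 ∣ Nat.card L := by
        have := L.orderOf_dvd_natCard htL
        rwa [orderOf_eq_prime (by rw [pow_two, ht]) ht1] at this
      refine (h.proper L (h.normalizer_zpowers_ne_top hx1) h2L d hd
        (hdd.trans (L.orderOf_dvd_natCard (Subgroup.le_normalizer (Subgroup.mem_zpowers x))))).resolve_right fun e => ?_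
      subst e
      obtain ⟨m, hm⟩ := hdd
      have hm0 : m ≠ 0 := fun e => by rw [e, mul_zero] at hm; exact (orderOf_pos x).ne' hm
      have e1 : x ^ m = 1 := hodd (x ^ m) (by rw [← pow_add, ← two_mul, ← hm, pow_orderOf_eq_one])
        ((Commute.refl x).pow_left m).eq
      have := Nat.le_of_dvd (Nat.pos_of_ne_zero hm0) (orderOf_dvd_of_pow_eq_one e1)
      omega
    exact ⟨k, hk ▸ pow_orderOf_eq_one x⟩
  have hrealC : ∀ t x : G, t * t = 1 → t ≠ 1 → t * x * t⁻¹ = x⁻¹ → x ≠ 1 → x * x ≠ 1 →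
      ∃ P : Sylow p G, x ∈ (P : Subgroup G) ∧ (∀ c : G, c * x = x * c → c ∈ (P : Subgroup G)) ∧
        t ∈ Subgroup.normalizer ((P : Subgroup G) : Set G) := by
    intro t x ht ht1 htx hx1 hxx
    obtain ⟨⟨k, hk⟩, hodd⟩ := hreal t x ht ht1 htx hx1 hxx
    obtain ⟨P, hP⟩ := exists_sylow_mem hk
    set C := Subgroup.centralizer ({x} : Set G)
    have hPC : (P : Subgroup G) ≤ C := fun z hz => mem_centralizer_iff'.mpr (h.comm_p P z hz x hP)
    have hCP : ∀ c, c * x = x * c → c ∈ (P : Subgroup G) := by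
      set L := Subgroup.normalizer (Subgroup.zpowers x : Set G)
      have htL : t ∈ L := by
        rw [Subgroup.mem_normalizer_iff]
        have key : ∀ y ∈ Subgroup.zpowers x, t * y * t⁻¹ ∈ Subgroup.zpowers x := by
          rintro _ ⟨i, rfl⟩
          show t * x ^ i * t⁻¹ ∈ _
          rw [← conj_zpow, htx, inv_zpow]
          exact inv_mem (zpow_mem (Subgroup.mem_zpowers x) i)
        intro y
        refine ⟨key y, fun hy => ?_⟩
        have := key _ hy
        rwa [show t * (t * y * t⁻¹) * t⁻¹ = (t * t) * y * (t * t)⁻¹ by group, ht, one_mul, inv_one, mul_one] at this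
      have h2L : 2 ∣ Nat.card L := by
        have := L.orderOf_dvd_natCard htL
        rwa [orderOf_eq_prime (by rw [pow_two, ht]) ht1] at this
      have hCp : IsPGroup p C := by
        obtain ⟨k, hk⟩ : ∃ k, Nat.card C = p ^ k := by
          refine ⟨_, Nat.eq_prime_pow_of_unique_prime_dvd Nat.card_pos.ne' fun {d} hd hdd => ?_⟩
          refine (h.proper L (h.normalizer_zpowers_ne_top hx1) h2L d hd
            (hdd.trans (Subgroup.card_dvd_of_le (centralizer_le_normalizer_zpowers x)))).resolve_right fun e => ?_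
          subst e
          obtain ⟨u, hu⟩ := exists_prime_orderOf_dvd_card' 2 hdd
          have hu' : orderOf (u : G) = 2 := (Subgroup.orderOf_coe u).trans hu
          have := hodd (u : G) (by rw [← pow_two, ← hu', pow_orderOf_eq_one]) (mem_centralizer_iff'.mp u.2)
          rw [this, orderOf_one] at hu'
          omega
        exact IsPGroup.of_card hk
      intro c hc
      have := P.is_maximal' hCp hPC
      have hcC : c ∈ C := mem_centralizer_iff'.mpr hc
      rw [this] at hcC
      exact hcC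
    refine ⟨P, hP, hCP, ?_⟩
    have key : ∀ c ∈ (P : Subgroup G), t * c * t⁻¹ ∈ (P : Subgroup G) := fun c hc => by
      refine hCP _ ?_
      have e : t⁻¹ * x * t = x⁻¹ := by
        rw [inv_eq_of_mul_eq_one_right ht] at htx ⊢; exact htx
      have hcx : Commute c x⁻¹ := (show Commute c x from h.comm_p P c hc x hP).inv_right
      calc t * c * t⁻¹ * x = t * (c * (t⁻¹ * x * t)) * t⁻¹ := by group
        _ = t * ((t⁻¹ * x * t) * c) * t⁻¹ := by rw [e, hcx.eq]
        _ = x * (t * c * t⁻¹) := by group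
    rw [Subgroup.mem_normalizer_iff]
    intro c
    refine ⟨key c, fun hc => ?_⟩
    have := key _ hc
    rwa [show t * (t * c * t⁻¹) * t⁻¹ = (t * t) * c * (t * t)⁻¹ by group, ht, one_mul, inv_one, mul_one] at this
  obtain ⟨Q⟩ := (inferInstance : Nonempty (Sylow 2 G))
  have hQ2 : 1 < Nat.card (Q : Subgroup G) := by rw [h.card_two Q]; have := h.prime.two_le; omega
  obtain ⟨⟨t, htQ⟩, ht1'⟩ := Subgroup.ne_bot_iff_exists_ne_one.mp ((Subgroup.one_lt_card_iff_ne_bot _).mp hQ2)
  have ht1 : t ≠ 1 := fun e => ht1' (Subtype.ext e)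
  have htt := h.exp_two Q t htQ
  have hti : t⁻¹ = t := inv_eq_of_mul_eq_one_right htt
  obtain ⟨s, hss, hs1, hsQ⟩ : ∃ s : G, s * s = 1 ∧ s ≠ 1 ∧ s ∉ (Q : Subgroup G) := by
    by_contra! hall
    have hn : (Q : Subgroup G).Normal := ⟨fun a ha g => by
      by_cases ha1 : a = 1
      · simp [ha1, one_mem]
      refine hall _ ?_ (fun e => ha1 (conj_eq_one_iff.mp e))
      rw [← MulAut.conj_apply, ← map_mul, h.exp_two Q a ha, map_one]⟩
    rcases h.simple _ hn with e | e
    · rw [e, Subgroup.card_bot] at hQ2; omega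
    · exact h.not_top_of_isPGroup Nat.prime_two Q.isPGroup' e
  have hprod : ∀ s : G, s * s = 1 → s ≠ 1 → s ∉ (Q : Subgroup G) →
      t * (s * t) * t⁻¹ = (s * t)⁻¹ ∧ s * t ≠ 1 ∧ (s * t) * (s * t) ≠ 1 := by
    intro s hss hs1 hsQ
    have hsi : s⁻¹ = s := inv_eq_of_mul_eq_one_right hss
    refine ⟨by rw [mul_inv_rev, hsi, hti]; simp [mul_assoc, htt], fun e => hsQ ?_, fun e => hsQ ?_⟩
    · rw [eq_inv_of_mul_eq_one_left e]; exact inv_mem htQ
    · refine hsame Q t htQ ht1 s hss ?_
      have e1 := inv_eq_of_mul_eq_one_right e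
      rw [mul_inv_rev, hsi, hti] at e1
      exact e1.symm
  -- `C(t)` has no elements of order `p`
  have hfpf : ∀ z : G, (∃ k, z ^ p ^ k = 1) → z * t = t * z → z = 1 := by
    rintro z ⟨k, hk⟩ hzt
    by_contra hz1
    obtain ⟨e1, e2, e3⟩ := hprod s hss hs1 hsQ
    obtain ⟨P, hxP, hCP, htN⟩ := hrealC t _ htt ht1 e1 e2 e3
    set x := s * t with hx
    -- conjugate `z` into `P`
    obtain ⟨P', hP'⟩ := exists_sylow_mem hk
    obtain ⟨c, hc⟩ := MulAction.exists_smul_eq G P' P
    have hzP : c * z * c⁻¹ ∈ (P : Subgroup G) := by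
      rw [← hc, Sylow.coe_subgroup_smul, Subgroup.mem_pointwise_smul_iff_inv_smul_mem, ← map_inv,
        MulAut.smul_def, MulAut.conj_apply, inv_inv, show c⁻¹ * (c * z * c⁻¹) * c = z by group]
      exact hP'
    have hzu : (c * z * c⁻¹) * (c * t * c⁻¹) = (c * t * c⁻¹) * (c * z * c⁻¹) := by
      rw [← MulAut.conj_apply, ← MulAut.conj_apply, ← map_mul, ← map_mul, hzt]
    -- elements of `P` with even centralizers give Sylow subgroups normalized by `P`
    have key : ∀ w ∈ (P : Subgroup G), w ≠ 1 → ∀ u : G, u * u = 1 → u ≠ 1 → w * u = u * w →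
        ∃ R : Sylow 2 G, u ∈ (R : Subgroup G) ∧ (∀ q ∈ (R : Subgroup G), w * q = q * w) ∧
          (P : Subgroup G) ≤ Subgroup.normalizer ((R : Subgroup G) : Set G) := by
      intro w hw hw1 u hu hu1 hwu
      obtain ⟨R, hR⟩ := h.exists_sylow_two hu
      have hwR := hCt R u hR hu1 w hwu
      refine ⟨R, hR, hwR, ?_⟩
      refine le_trans (fun g hg => mem_centralizer_iff'.mpr (h.comm_p P g hg w hw))
        (hover R (Subgroup.centralizer ({w} : Set G)) (h.centralizer_ne_top hw1) ?_)
      exact fun q hq => mem_centralizer_iff'.mpr (hwR q hq).symm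
    have hxt : x * x ≠ 1 := e3
    have hnoR : ∀ R : Sylow 2 G, t ∈ (R : Subgroup G) → ¬ (P : Subgroup G) ≤ Subgroup.normalizer ((R : Subgroup G) : Set G) := by
      intro R htR hPR
      have e := commute_of_normalizing (h.card_coprime P R) hxP htR (hPR hxP) htN
      rw [← e, mul_inv_cancel_right] at e1
      exact hxt (by nth_rw 1 [e1]; exact inv_mul_cancel x)
    set w := c * z * c⁻¹ with hw
    have hw1 : w ≠ 1 := fun e => hz1 (conj_eq_one_iff.mp e)
    obtain ⟨R, huR, hwR, hPR⟩ := key w hzP hw1 (c * t * c⁻¹)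
      (by rw [← MulAut.conj_apply, ← map_mul, htt, map_one]) (fun e => ht1 (conj_eq_one_iff.mp e)) hzu
    set w' := t * w * t⁻¹ with hw'
    have hw'P : w' ∈ (P : Subgroup G) := conj_mem_normalizer hzP htN
    by_cases hww : w * w' = 1
    · -- `t` inverts `w`, so it normalizes `R`
      have hw'' : t * w * t⁻¹ = w⁻¹ := (inv_eq_of_mul_eq_one_right hww).symm
      have hQL : (R : Subgroup G) ≤ Subgroup.normalizer (Subgroup.zpowers w : Set G) := fun q hq =>
        centralizer_le_normalizer_zpowers w (mem_centralizer_iff'.mpr (hwR q hq).symm)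
      have htL : t ∈ Subgroup.normalizer (Subgroup.zpowers w : Set G) := by
        rw [Subgroup.mem_normalizer_iff]
        have key2 : ∀ y ∈ Subgroup.zpowers w, t * y * t⁻¹ ∈ Subgroup.zpowers w := by
          rintro _ ⟨i, rfl⟩
          show t * w ^ i * t⁻¹ ∈ _
          rw [← conj_zpow, hw'', inv_zpow]
          exact inv_mem (zpow_mem (Subgroup.mem_zpowers w) i)
        intro y
        refine ⟨key2 y, fun hy => ?_⟩
        have := key2 _ hy
        rwa [show t * (t * y * t⁻¹) * t⁻¹ = (t * t) * y * (t * t)⁻¹ by group, htt, one_mul, inv_one, mul_one] at this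
      exact hnoR R (h.two_mem_of_normalizer (hover R _ (h.normalizer_zpowers_ne_top hw1) hQL htL) (k := 1)
        (by rw [pow_one, pow_two, htt])) hPR
    · have hct : (w * w') * t = t * (w * w') := by
        have ew : t * w' * t⁻¹ = w := by
          rw [hw', hti, show t * (t * w * t) * t = (t * t) * w * (t * t) by group, htt, one_mul, mul_one]
        have h1 : t * (w * w') * t⁻¹ = w * w' := by
          calc t * (w * w') * t⁻¹ = (t * w * t⁻¹) * (t * w' * t⁻¹) := by group
            _ = w' * w := by rw [← hw', ew]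
            _ = w * w' := (h.comm_p P w hzP w' hw'P).symm
        exact (mul_inv_eq_iff_eq_mul.mp h1).symm
      obtain ⟨R', htR', -, hPR'⟩ := key _ (mul_mem hzP hw'P) hww t htt ht1 hct
      exact hnoR R' htR' hPR'
  -- counting the involutions
  let I := {u : G // u * u = 1 ∧ u ≠ 1}
  have hI : p ∣ Nat.card I := by
    letI : MulAction G I :=
      { smul := fun g u => ⟨g * u.1 * g⁻¹, by rw [← MulAut.conj_apply, ← map_mul, u.2.1, map_one],
          fun e => u.2.2 (conj_eq_one_iff.mp e)⟩
        one_smul := fun u => Subtype.ext (by show (1 : G) * u.1 * (1 : G)⁻¹ = u.1; group)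
        mul_smul := fun a b u => Subtype.ext (by show (a * b) * u.1 * (a * b)⁻¹ = a * (b * u.1 * b⁻¹) * a⁻¹; group) }
    haveI : MulAction.IsPretransitive G I := ⟨fun a b => by
      obtain ⟨g, hg⟩ := h.conj_involution a.2.1 a.2.2 b.2.1 b.2.2
      exact ⟨g, Subtype.ext hg⟩⟩
    have hi := (MulAction.stabilizer G (⟨t, htt, ht1⟩ : I)).index_mul_card
    rw [MulAction.index_stabilizer_of_transitive] at hi
    refine (h.prime.dvd_mul.mp (hi.symm ▸ h.dvd)).resolve_right fun hd => ?_
    obtain ⟨z, hz⟩ := exists_prime_orderOf_dvd_card' p hd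
    have e : (z : G) * t * (z : G)⁻¹ = t := congrArg Subtype.val z.2
    have hz' : orderOf (z : G) = p := (Subgroup.orderOf_coe z).trans hz
    have := hfpf z ⟨1, by rw [pow_one, ← hz', pow_orderOf_eq_one]⟩ (mul_inv_eq_iff_eq_mul.mp e)
    rw [this, orderOf_one] at hz'
    exact h.prime.ne_one hz'.symm
  let A := {P : Sylow p G // t ∈ Subgroup.normalizer ((P : Subgroup G) : Set G)}
  have hinvA : ∀ (P : A), ∀ z ∈ (P.1 : Subgroup G), t * z * t⁻¹ = z⁻¹ := fun P =>
    inverts h.ne_two P.1.isPGroup' (h.comm_p P.1) htt P.2 fun a ha e =>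
      hfpf a (exists_pow_eq_one P.1.isPGroup' ha) e.symm
  have hsq : ∀ (P : A), ∀ z ∈ (P.1 : Subgroup G), z ≠ 1 → z * z ≠ 1 := fun P z hz hz1 e => by
    obtain ⟨k, hk⟩ := exists_pow_eq_one P.1.isPGroup' hz
    exact hz1 (eq_one_of_pow h.coprime hk (j := 1) (by rw [pow_one, pow_two, e]))
  have huniq : ∀ (P : A), ∀ z ∈ (P.1 : Subgroup G), z ≠ 1 → ∀ c, c * z = z * c → c ∈ (P.1 : Subgroup G) := by
    intro P z hz hz1 c hc
    obtain ⟨P', hzP', hC, -⟩ := hrealC t z htt ht1 (hinvA P z hz) hz1 (hsq P z hz hz1)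
    have : (P.1 : Subgroup G) ≤ (P' : Subgroup G) := fun w hw => hC w (h.comm_p P.1 w hw z hz)
    rw [Sylow.ext (Subgroup.eq_of_le_of_card_ge this (by rw [P'.card_eq_multiplicity, P.1.card_eq_multiplicity]))]
    exact hC c hc
  let Z := Σ P : A, {z : (P.1 : Subgroup G) // z ≠ 1}
  let J := {u : I // u.1 ∉ (Q : Subgroup G)}
  let f : Z → J := fun w => ⟨⟨(w.2.1 : G) * t, by
      calc (w.2.1 : G) * t * ((w.2.1 : G) * t) = (w.2.1 : G) * (t * w.2.1 * t⁻¹) * (t * t) := by group
        _ = 1 := by rw [hinvA w.1 _ w.2.1.2, htt, mul_one, mul_inv_cancel],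
      fun e => by
        have hz : (w.2.1 : G) = t := by rw [eq_inv_of_mul_eq_one_left e, hti]
        exact hsq w.1 _ w.2.1.2 (fun e' => w.2.2 (Subtype.ext e')) (by rw [hz, htt])⟩,
      fun hmem => by
        have hz : (w.2.1 : G) ∈ (Q : Subgroup G) := by
          have h' : (w.2.1 : G) * t * t ∈ (Q : Subgroup G) := mul_mem hmem htQ
          rwa [mul_assoc, htt, mul_one] at h'
        exact hsq w.1 _ w.2.1.2 (fun e' => w.2.2 (Subtype.ext e')) (h.exp_two Q _ hz)⟩
  have hf : Function.Bijective f := by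
    refine ⟨?_, ?_⟩
    · rintro ⟨P, z⟩ ⟨P', z'⟩ e
      have e' : (z.1 : G) = z'.1 := mul_right_cancel (congrArg (fun w : J => w.1.1) e)
      have hP : P = P' := Subtype.ext (Sylow.ext (Subgroup.eq_of_le_of_card_ge (fun w hw => by
        refine huniq P' _ z'.1.2 (fun e2 => z'.2 (Subtype.ext e2)) w ?_
        rw [← e']; exact h.comm_p P.1 w hw _ z.1.2) (by rw [P.1.card_eq_multiplicity, P'.1.card_eq_multiplicity])))
      subst hP
      have hzz : z = z' := Subtype.ext (Subtype.ext e')
      subst hzz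
      rfl
    · rintro ⟨⟨u, hu, hu1⟩, huQ⟩
      obtain ⟨e1, e2, e3⟩ := hprod u hu hu1 huQ
      obtain ⟨P, hxP, -, htN⟩ := hrealC t _ htt ht1 e1 e2 e3
      refine ⟨⟨⟨P, htN⟩, ⟨⟨u * t, hxP⟩, fun e => e2 (congrArg Subtype.val e)⟩⟩, ?_⟩
      apply Subtype.ext; apply Subtype.ext
      show u * t * t = u
      rw [mul_assoc, htt, mul_one]
  haveI := Fintype.ofFinite A
  haveI := Fintype.ofFinite I
  haveI := Fintype.ofFinite G
  obtain ⟨P₁⟩ := (inferInstance : Nonempty (Sylow p G))
  have hJ : Nat.card J = Nat.card A * (Nat.card (P₁ : Subgroup G) - 1) := by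
    rw [← Nat.card_congr (Equiv.ofBijective f hf), Nat.card_sigma, Finset.sum_congr rfl (fun P _ => ?_),
      Finset.sum_const, Finset.card_univ, smul_eq_mul, Nat.card_eq_fintype_card]
    rw [Nat.card_eq_fintype_card, Fintype.card_subtype_compl, Fintype.card_subtype_eq, ← Nat.card_eq_fintype_card,
      P.1.card_eq_multiplicity, P₁.card_eq_multiplicity]
  have hIJ : Nat.card I = Nat.card J + p := by
    have h1 : Nat.card {u : I // u.1 ∈ (Q : Subgroup G)} = p := by
      haveI := Fintype.ofFinite (Q : Subgroup G)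
      let e : {u : I // u.1 ∈ (Q : Subgroup G)} ≃ {u : (Q : Subgroup G) // u ≠ 1} :=
        { toFun := fun u => ⟨⟨u.1.1, u.2⟩, fun h => u.1.2.2 (congrArg Subtype.val h)⟩
          invFun := fun u => ⟨⟨u.1.1, h.exp_two Q _ u.1.2, fun e => u.2 (Subtype.ext e)⟩, u.1.2⟩
          left_inv := fun u => rfl
          right_inv := fun u => rfl }
      rw [Nat.card_congr e, Nat.card_eq_fintype_card, Fintype.card_subtype_compl, Fintype.card_subtype_eq,
        ← Nat.card_eq_fintype_card, h.card_two Q, Nat.add_sub_cancel]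
    rw [← Nat.card_congr (Equiv.sumCompl (fun u : I => u.1 ∈ (Q : Subgroup G))), Nat.card_sum, h1, add_comm]
  have hAd : ∀ P : A, Nat.card A ∣ Nat.card (Q : Subgroup G) := by
    intro P
    letI : MulAction (Q : Subgroup G) A :=
      { smul := fun c R => ⟨(c : G) • R.1, by
          rw [← smul_iff, smul_smul, ← h.comm_two Q _ c.2 t htQ, mul_smul,
            smul_iff.mpr R.2]⟩
        one_smul := fun R => Subtype.ext (one_smul G R.1)
        mul_smul := fun a b R => Subtype.ext (mul_smul (a : G) (b : G) R.1) }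
    haveI : MulAction.IsPretransitive (Q : Subgroup G) A := by
      refine ⟨fun R R' => ?_⟩
      obtain ⟨g, hg⟩ := MulAction.exists_smul_eq G R.1 R'.1
      have htg : g⁻¹ * t * g ∈ Subgroup.normalizer ((R.1 : Subgroup G) : Set G) := by
        rw [← smul_iff, mul_smul, mul_smul, hg, smul_iff.mpr R'.2,
          ← hg, inv_smul_smul]
      set t' := g⁻¹ * t * g with ht'
      have ht't : t' * t' = 1 := by
        rw [ht', show g⁻¹ * t * g * (g⁻¹ * t * g) = g⁻¹ * (t * t) * g by group, htt]; group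
      -- both involutions invert `R`
      have hinv' : ∀ z ∈ (R.1 : Subgroup G), t' * z * t'⁻¹ = z⁻¹ := by
        refine inverts h.ne_two R.1.isPGroup' (h.comm_p R.1) ht't htg fun a ha e => ?_
        obtain ⟨k, hk⟩ := exists_pow_eq_one R.1.isPGroup' ha
        have : g * a * g⁻¹ = 1 := by
          refine hfpf _ ⟨k, by rw [conj_pow, hk]; group⟩ ?_
          calc g * a * g⁻¹ * t = g * (a * t') * g⁻¹ := by rw [ht']; group
            _ = g * (t' * a) * g⁻¹ := by rw [e]
            _ = t * (g * a * g⁻¹) := by rw [ht']; group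
        exact conj_eq_one_iff.mp this
      obtain ⟨z₀, hz₀, hz₀1⟩ : ∃ z ∈ (R.1 : Subgroup G), z ≠ 1 := by
        by_contra! e
        have := R.1.dvd_card_of_dvd_card h.dvd
        rw [(Subgroup.eq_bot_iff_forall _).mpr e, Subgroup.card_bot] at this
        exact h.prime.not_dvd_one this
      have hv : t' * t ∈ (R.1 : Subgroup G) := by
        refine huniq R z₀ hz₀ hz₀1 _ ?_
        rw [← mul_inv_eq_iff_eq_mul]
        calc t' * t * z₀ * (t' * t)⁻¹ = t' * (t * z₀ * t⁻¹) * t'⁻¹ := by group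
          _ = z₀ := by rw [hinvA R z₀ hz₀, hinv' _ (inv_mem hz₀), inv_inv]
      set v := t' * t with hvdef
      obtain ⟨k, hk⟩ := exists_pow_eq_one R.1.isPGroup' hv
      obtain ⟨m, hm⟩ : ∃ m, m * 2 = p ^ k + 1 := by
        obtain ⟨l, hl⟩ := (h.prime.odd_of_ne_two h.ne_two).pow (n := k)
        exact ⟨l + 1, by omega⟩
      have hwv : v ^ m * v ^ m = v := by
        rw [← pow_add, ← mul_two, hm, pow_succ, hk, one_mul]
      have hwR : v ^ m ∈ (R.1 : Subgroup G) := pow_mem hv m
      have hgt : (g * v ^ m) * t = t * (g * v ^ m) := by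
        have e2 : v ^ m * t * (v ^ m)⁻¹ = t' := by
          calc v ^ m * t * (v ^ m)⁻¹ = v ^ m * (t * (v ^ m)⁻¹ * t⁻¹) * t := by group
            _ = v ^ m * v ^ m * t := by rw [hinvA R _ (inv_mem hwR), inv_inv]
            _ = t' := by rw [hwv, hvdef, mul_assoc, htt, mul_one]
        calc (g * v ^ m) * t = g * (v ^ m * t * (v ^ m)⁻¹) * v ^ m := by group
          _ = t * (g * v ^ m) := by rw [e2, ht']; group
      have hcQ : g * v ^ m ∈ (Q : Subgroup G) := by
        set C := Subgroup.centralizer ({t} : Set G)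
        have hQC : (Q : Subgroup G) ≤ C := fun u hu => mem_centralizer_iff'.mpr (h.comm_two Q u hu t htQ)
        have hC2 : ∀ c ∈ C, ∃ j, c ^ 2 ^ j = 1 := by
          intro c hc
          obtain ⟨j, hj⟩ : ∃ j, orderOf c = 2 ^ j := by
            refine ⟨_, Nat.eq_prime_pow_of_unique_prime_dvd (orderOf_pos c).ne' fun {d} hd hdd => ?_⟩
            refine (h.proper C (h.centralizer_ne_top ht1) (h.two_dvd_of_le Q hQC) d hd
              (hdd.trans (C.orderOf_dvd_natCard hc))).resolve_left fun e => ?_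
            subst e
            obtain ⟨l, hl⟩ := hdd
            have hl0 : l ≠ 0 := fun e => by rw [e, mul_zero] at hl; exact (orderOf_pos c).ne' hl
            have h1 : c ^ l = 1 := hfpf (c ^ l) ⟨1, by rw [pow_one, ← pow_mul, mul_comm, ← hl, pow_orderOf_eq_one]⟩
              ((show Commute c t from mem_centralizer_iff'.mp hc).pow_left l).eq
            have := Nat.le_of_dvd (Nat.pos_of_ne_zero hl0) (orderOf_dvd_of_pow_eq_one h1)
            rw [hl] at this
            have := h.prime.two_le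
            nlinarith [Nat.pos_of_ne_zero hl0]
          exact ⟨j, hj ▸ pow_orderOf_eq_one c⟩
        have hmemC : g * v ^ m ∈ C := mem_centralizer_iff'.mpr hgt
        obtain ⟨j, hj⟩ := hC2 _ hmemC
        exact h.two_mem_of_normalizer (hover Q C (h.centralizer_ne_top ht1) hQC hmemC) hj
      refine ⟨⟨_, hcQ⟩, Subtype.ext ?_⟩
      show (g * v ^ m) • R.1 = R'.1
      rw [mul_smul, smul_iff.mpr (Subgroup.le_normalizer hwR), hg]
    have := (MulAction.stabilizer (Q : Subgroup G) P).index_mul_card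
    rw [MulAction.index_stabilizer_of_transitive] at this
    exact ⟨_, this.symm⟩
  obtain ⟨e1, e2, e3⟩ := hprod s hss hs1 hsQ
  obtain ⟨P, -, -, htN⟩ := hrealC t _ htt ht1 e1 e2 e3
  have hJp : p ∣ Nat.card J := by
    rw [hIJ] at hI
    exact (Nat.dvd_add_left dvd_rfl).mp hI
  rw [hJ] at hJp
  rcases h.prime.dvd_mul.mp hJp with hd | hd
  · have hA2 := hd.trans (hAd ⟨P, htN⟩)
    rw [h.card_two Q] at hA2
    exact h.prime.not_dvd_one ((Nat.dvd_add_right dvd_rfl).mp hA2)
  · have hP := P₁.dvd_card_of_dvd_card h.dvd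
    have hpos : 0 < Nat.card (P₁ : Subgroup G) := Nat.card_pos
    have := Nat.dvd_sub hP hd
    rw [show Nat.card (P₁ : Subgroup G) - (Nat.card (P₁ : Subgroup G) - 1) = 1 by omega] at this
    exact h.prime.not_dvd_one this

end Cex

end Cfsg.Agent.MixedPrime
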